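import Cfsg.Agent.TwoRankTwo.Group
import Cfsg.Prelude.Def_TwoFusion

/-!
Groups of 2-rank two without isolated involutions.
-/

set_option autoImplicit false
set_option linter.style.haveILetI false
set_option linter.unusedSectionVars false

namespace CfsgLib.TwoRankTwo

open Subgroup

universe u

variable {G : Type u} [Group G] [Finite G] (S : Sylow 2 G)

/-- A 2-subgroup of the centralizer of a central element of `S` moves into `S` inside that centralizer. -/
theorem exists_conj_in_centralizer {z : G} (hz : ∀ s ∈ (S : Subgroup G), s * z = z * s) {Q : Subgroup G}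
    (hQ : IsPGroup 2 Q) (hQz : ∀ q ∈ Q, q * z = z * q) :
    ∃ c : G, c * z * c⁻¹ = z ∧ ∀ q ∈ Q, c * q * c⁻¹ ∈ (S : Subgroup G) := by
  haveI : Fact (Nat.Prime 2) := ⟨Nat.prime_two⟩
  set C := centralizer ({z} : Set G)
  have hSC : (S : Subgroup G) ≤ C := fun s hs => mem_centralizer_singleton_iff.2 (hz s hs)
  have hQC : Q ≤ C := fun q hq => mem_centralizer_singleton_iff.2 (hQz q hq)
  obtain ⟨P, hP⟩ := (hQ.comap_of_injective C.subtype C.subtype_injective).exists_le_sylow
  obtain ⟨c, hc⟩ := MulAction.exists_smul_eq C P (S.subtype hSC)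
  refine ⟨c, mul_inv_eq_iff_eq_mul.2 (mem_centralizer_singleton_iff.1 c.2), fun q hq => ?_⟩
  have h1 : c * (⟨q, hQC hq⟩ : C) * c⁻¹ ∈ ((S.subtype hSC : Sylow 2 C) : Subgroup C) := by
    rw [← hc]
    show c * _ * c⁻¹ ∈ ((P : Subgroup C).map (MulAut.conj c).toMonoidHom)
    exact ⟨⟨q, hQC hq⟩, hP hq, rfl⟩
  rw [Sylow.coe_subtype] at h1
  exact mem_subgroupOf.1 h1

/-- Fusion in the Sylow subgroup when there is no isolated involution. -/
def movedOfGroup (hiso : ∀ z : G, ¬ Cfsg.IsIsolatedInvolution z) : Moved (S : Subgroup G) where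
  R x y := ∃ g : G, g * (x : G) * g⁻¹ = y
  symm := fun ⟨g, hg⟩ => ⟨g⁻¹, by rw [← hg]; group⟩
  moved := by
    intro z hzc hz2 hz1
    haveI : Fact (Nat.Prime 2) := ⟨Nat.prime_two⟩
    have hz0 : orderOf (z : G) = 2 := by
      rw [Subgroup.orderOf_coe]
      exact orderOf_eq_prime (by rw [pow_two]; exact hz2) hz1
    have h := hiso z
    unfold Cfsg.IsIsolatedInvolution at h
    push Not at h
    obtain ⟨g, hgc, hgne⟩ := h hz0
    set w := g * (z : G) * g⁻¹ with hw
    have hw2 : w * w = 1 := by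
      have : (z : G) * z = 1 := congrArg Subtype.val hz2
      calc w * w = g * ((z : G) * z) * g⁻¹ := by rw [hw]; group
        _ = 1 := by rw [this]; group
    have hW : IsPGroup 2 (zpowers w) := IsPGroup.of_card (n := 1) (by
      rw [Nat.card_zpowers, pow_one]
      exact orderOf_eq_prime (by rw [pow_two]; exact hw2) fun h1 => hz1 (Subtype.ext (by
        have h3 : (z : G) = g⁻¹ * w * g := by rw [hw]; group
        rw [h3, h1]; simp)))
    have hzS : ∀ s ∈ (S : Subgroup G), s * (z : G) = z * s := fun s hs =>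
      congrArg Subtype.val (mem_center_iff.1 hzc ⟨s, hs⟩)
    obtain ⟨c, hcz, hc⟩ := exists_conj_in_centralizer S hzS hW fun q hq => by
      obtain ⟨k, rfl⟩ := mem_zpowers_iff.1 hq
      exact (hgc.symm.zpow_left k).eq
    refine ⟨⟨c * w * c⁻¹, hc w (mem_zpowers w)⟩, fun h => hgne ?_, ⟨(c * g)⁻¹, ?_⟩⟩
    · have h1 : c * w * c⁻¹ = z := congrArg Subtype.val h
      exact mul_left_cancel (mul_right_cancel (h1.trans hcz.symm))
    · show (c * g)⁻¹ * (c * w * c⁻¹) * ((c * g)⁻¹)⁻¹ = z
      rw [hw]; group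
  ext := by
    intro y z hzc hR
    haveI : Fact (Nat.Prime 2) := ⟨Nat.prime_two⟩
    obtain ⟨g, hg⟩ := hR
    have hzS : ∀ s ∈ (S : Subgroup G), s * (z : G) = z * s := fun s hs =>
      congrArg Subtype.val (mem_center_iff.1 hzc ⟨s, hs⟩)
    set Q := ((centralizer ({y} : Set (S : Subgroup G))).map (S : Subgroup G).subtype).map
      (MulAut.conj g).toMonoidHom with hQdef
    have hQ : IsPGroup 2 Q := ((S.isPGroup'.to_subgroup _).map _).map _
    obtain ⟨c, hcz, hc⟩ := exists_conj_in_centralizer S hzS hQ (by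
      rintro _ ⟨_, ⟨w, hw, rfl⟩, rfl⟩
      show g * (w : G) * g⁻¹ * z = z * (g * (w : G) * g⁻¹)
      have hwy : (w : G) * y = y * w := congrArg Subtype.val (mem_centralizer_singleton_iff.1 hw)
      rw [← hg]
      calc g * (w : G) * g⁻¹ * (g * (y : G) * g⁻¹) = g * ((w : G) * y) * g⁻¹ := by group
        _ = g * ((y : G) * w) * g⁻¹ := by rw [hwy]
        _ = _ := by group)
    let f : centralizer ({y} : Set (S : Subgroup G)) →* G :=
      (MulAut.conj (c * g)).toMonoidHom.comp ((S : Subgroup G).subtype.comp (centralizer _).subtype)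
    have hf : ∀ w, f w ∈ (S : Subgroup G) := fun w => by
      have h1 := hc _ ⟨_, ⟨(w : (S : Subgroup G)), w.2, rfl⟩, rfl⟩
      show c * g * ((w : (S : Subgroup G)) : G) * (c * g)⁻¹ ∈ _
      convert h1 using 1
      show _ = c * (g * ((w : (S : Subgroup G)) : G) * g⁻¹) * c⁻¹
      group
    refine ⟨f.codRestrict (S : Subgroup G) hf, fun a b hab => ?_, fun w => ⟨c * g, rfl⟩, fun w hw => ?_⟩
    · have h1 : f a = f b := congrArg Subtype.val hab
      exact Subtype.ext (Subtype.ext ((MulAut.conj (c * g)).injective h1))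
    · apply Subtype.ext
      show c * g * ((w : (S : Subgroup G)) : G) * (c * g)⁻¹ = z
      rw [hw, ← hcz, ← hg]
      group

end CfsgLib.TwoRankTwo
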