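import Cfsg.Agent.TwoRankTwo.Realize
import Cfsg.Agent.Fusion.AbelianSimple
import Cfsg.Agent.Fusion.NormalRealized
import Cfsg.Agent.Invol.CentralizerPattern

/-!
Simple systems on 2-groups of rank two are systems of `PSL₂(q)` or `PSL₃(q)`.
-/

set_option autoImplicit false
set_option linter.style.haveILetI false
set_option linter.unusedSectionVars false

open Cfsg Cfsg.FusionSystem CfsgLib.Fusion CfsgLib.FusionImage CfsgLib.SL2C CfsgLib.Linear CfsgLib.Linear.TwoSylow

namespace CfsgLib.TwoRankTwo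

universe u

variable {Ω : Type u} [Group Ω] {S : Subgroup Ω} [Finite S]

open CfsgLib.Tame

theorem realizedBy_of_pattern (hS : IsPGroup 2 S) {F : FusionSystem S} (hF : F.IsSaturated 2) {G : Type}
    [Group G] [Finite G] (T : Sylow 2 G) (θ : S →* G) (hθ : Function.Injective θ)
    (hr : θ.range = (T : Subgroup G))
    (hkey : ∀ F' : FusionSystem (T : Subgroup G), F.IsFactorSystem ⊥ θ F' → F'.IsSaturated 2 →
      F' ≤ groupFusionSystem (T : Subgroup G) ∧ groupFusionSystem (T : Subgroup G) ≤ F') :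
    F.IsRealizedBy θ ∧ (T : Subgroup G) = θ.range := by
  obtain ⟨F', hI⟩ := exists_im F hθ hr
  have hsat : F'.IsSaturated 2 := factor_saturated stronglyClosed_bot hI 2 hS hF
  obtain ⟨h1, h2⟩ := hkey F' hI hsat
  rw [le_antisymm' h1 h2] at hI
  exact ⟨realizedBy_of_factor hI, hr.symm⟩

theorem ident_cyc (D : CycData S) (hP : D.Proper) {F : FusionSystem S} (hF : F.IsSaturated 2)
    (hm : ∀ i, Tame.Moved F (D.E i)) {G : Type} [Group G] [Finite G] (T : Sylow 2 G)
    (DT : CycData (T : Subgroup G)) (hk : D.SameKind DT)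
    (hT : ∀ i, Tame.Moved (groupFusionSystem (T : Subgroup G)) (DT.E i)) :
    ∃ θ : S →* G, F.IsRealizedBy θ ∧ (T : Subgroup G) = θ.range := by
  obtain ⟨θ, hθ, hr, hgen⟩ := hk.exists_iso
  haveI : Fact (Nat.Prime 2) := ⟨Nat.prime_two⟩
  have himg : ∀ i, img θ (D.E i) = DT.E i := fun i => by
    ext w
    constructor
    · rintro ⟨⟨g, hg⟩, hg', rfl⟩
      obtain ⟨a, ha, rfl | rfl⟩ := (hg' : g ∈ D.E i)
      · rw [(hgen a).1]; exact DT.rot_mem_E.2 (hk.w_eq i ▸ ha)
      · rw [(hgen _).2]; exact DT.ref_mem_E.2 (by rw [hk.w_eq, add_sub_cancel_right]; exact ha)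
    · rintro ⟨a, ha, rfl | rfl⟩
      · exact ⟨⟨_, D.rot_mem a⟩, D.rot_mem_E.2 (hk.w_eq i ▸ ha), (hgen a).1⟩
      · exact ⟨⟨_, D.ref_mem _⟩, D.ref_mem_E.2 (by rw [add_sub_cancel_right]; exact hk.w_eq i ▸ ha), (hgen _).2⟩
  exact ⟨θ, realizedBy_of_pattern D.isPGroup hF T θ hθ hr fun F' hI hsat =>
    ⟨CycData.le_of_moved (D := DT) (hk.proper hP) hsat fun i _ => hT i,
      CycData.le_of_moved (D := DT) (hk.proper hP) (groupFusion_saturated T) fun i _ => by
        rw [← himg i]; exact (moved_transport hI (D.E_le i)).1 (hm i)⟩⟩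

theorem ident_wreath (D : CfsgLib.Wreath.Data S) {F : FusionSystem S} (hF : F.IsSaturated 2)
    (hA : WData.Std D F) (hX : WData.MovedX D F) {G : Type} [Group G] [Finite G] (T : Sylow 2 G)
    (DT : CfsgLib.Wreath.Data (T : Subgroup G)) (hk : D.k = DT.k)
    (hTA : WData.Std DT (groupFusionSystem (T : Subgroup G)))
    (hTX : WData.MovedX DT (groupFusionSystem (T : Subgroup G))) :
    ∃ θ : S →* G, F.IsRealizedBy θ ∧ (T : Subgroup G) = θ.range := by
  obtain ⟨θ, hθ, hr, hθe, hθt⟩ := WData.exists_iso D DT hk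
  have hh : DT.h = D.h := by rw [CfsgLib.Wreath.Data.h, CfsgLib.Wreath.Data.h, DT.hq, D.hq, hk]
  refine ⟨θ, realizedBy_of_pattern D.isPGroup hF T θ hθ hr fun F' hI hsat => ?_⟩
  have himgA : img θ (WData.A D) = WData.A DT := by
    ext w
    constructor
    · rintro ⟨s, hs, rfl⟩
      obtain ⟨u, ⟨i, j, rfl⟩, hu⟩ := (hs : (s : Ω) ∈ WData.A D)
      rw [show s = D.e i j from Subtype.ext hu.symm, hθe]
      exact (WData.el DT i j).2
    · intro hw
      obtain ⟨i, j, hij⟩ := WData.el_surj DT ⟨w, hw⟩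
      exact ⟨D.e i j, (WData.el D i j).2, (hθe i j).trans (congrArg Subtype.val hij).symm⟩
  have hA' : WData.Std DT F' := by
    obtain ⟨α, hα, hst⟩ := hA
    let c : img θ (WData.A D) ≃* WData.A DT := MulEquiv.subgroupCongr himgA
    refine ⟨MulAut.congr c (autTr hI (WData.A_le D) α), ?_, fun i j => ?_⟩
    · rw [autGroup_carrier (WData.A_le DT)]
      refine restrict_mem_of_eq ((autGroup_carrier (img_le_of_range hI.2.2.1 _)).1 (autTr_mem hI (WData.A_le D) hα))
        himgA.ge fun g => ?_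
      rfl
    · have e : c.symm (WData.el DT i j) = ⟨θ ⟨(WData.el D i j : Ω), WData.A_le D (WData.el D i j).2⟩,
          apply_mem_img (ι := θ) (x := ⟨(WData.el D i j : Ω), WData.A_le D (WData.el D i j).2⟩) (WData.el D i j).2⟩ :=
        Subtype.ext (hθe i j).symm
      refine Subtype.ext ?_
      show ((autTr hI (WData.A_le D) α (c.symm (WData.el DT i j)) : img θ (WData.A D)) : G) = _
      rw [e, autTr_apply hI (WData.A_le D) α (WData.el D i j), hst]
      exact hθe _ _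
  have hX' : WData.MovedX DT F' := by
    obtain ⟨X, ⟨hb, a, hr'⟩, hm⟩ := hX
    let X' : Subgroup (T : Subgroup G) := (img θ (X.map S.subtype)).subgroupOf (T : Subgroup G)
    have hmem : ∀ s : S, θ s ∈ img θ (X.map S.subtype) ↔ s ∈ X := fun s => by
      rw [mem_img hθ]
      exact Subgroup.mem_map_iff_mem S.subtype_injective
    refine ⟨X', ⟨fun i j => ?_, a, ?_⟩, ?_⟩
    · rw [Subgroup.mem_subgroupOf, ← hθe, hmem, hb, hh]
    · rw [Subgroup.mem_subgroupOf, Subgroup.coe_mul, ← hθe, ← hθt, ← map_mul, hmem]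
      exact hr'
    · rw [Subgroup.map_subgroupOf_eq_of_le (img_le_of_range hI.2.2.1 _)]
      exact (moved_transport hI (Subgroup.map_subtype_le _)).1 hm
  exact ⟨WData.le_of_pattern DT hsat (fun _ => ⟨hA', hTA⟩) fun _ => hTX,
    WData.le_of_pattern DT (groupFusion_saturated T) (fun _ => ⟨hTA, hA'⟩) fun _ => hX'⟩

/-- Composition of realizations. -/
theorem realizedBy_comp {F : FusionSystem S} {G : Type u} [Group G] {ι : S →* G} (h : F.IsRealizedBy ι)
    {T : Subgroup G} (hT : T = ι.range) {H : Type*} [Group H] {κ : T →* H}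
    (hκ : (groupFusionSystem T).IsRealizedBy κ) :
    ∃ χ : S →* H, F.IsRealizedBy χ ∧ χ.range = κ.range := by
  subst hT
  let r : S →* ι.range := ι.rangeRestrict
  refine ⟨κ.comp r, ⟨hκ.1.comp (MonoidHom.rangeRestrict_injective_iff.2 h.1), fun P hP φ hφ => ?_⟩, ?_⟩
  swap
  · rw [MonoidHom.range_comp, MonoidHom.range_eq_top.2 (MonoidHom.rangeRestrict_surjective ι),
      ← MonoidHom.range_eq_map]
  rw [h.2 P hP φ hφ]
  set P' := (P.subgroupOf S).map ι with hP'def
  have hP' : P' ≤ ι.range := Subgroup.map_le_range _ _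
  have hmem : ∀ x : P, ι ⟨x, hP x.2⟩ ∈ P' := fun x => ⟨⟨x, hP x.2⟩, x.2, rfl⟩
  let e : P →* P' := (ι.comp (Subgroup.inclusion hP)).codRestrict P' hmem
  have he : Function.Bijective e := by
    refine ⟨fun a b hab => Subgroup.inclusion_injective hP (h.1 (congrArg Subtype.val hab)), ?_⟩
    rintro ⟨_, x, hx, rfl⟩
    exact ⟨⟨x, hx⟩, rfl⟩
  let e' : P ≃* P' := MulEquiv.ofBijective e he
  constructor
  · rintro ⟨g, hg⟩
    let ψ : P' →* G := (MulAut.conj g).toMonoidHom.comp P'.subtype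
    have hψS : ∀ y, ψ y ∈ ι.range := fun y => by
      obtain ⟨x, rfl⟩ := he.2 y
      exact ⟨⟨φ x, hφ x⟩, hg x⟩
    have hψ : ψ ∈ (groupFusionSystem ι.range).Hom P' := ⟨hP', hψS, g, fun y => rfl⟩
    obtain ⟨k, hk⟩ := (hκ.2 P' hP' ψ hψS).1 hψ
    refine ⟨k, fun x => ?_⟩
    have h1 := hk (e x)
    show κ (r ⟨φ x, hφ x⟩) = k * κ (r ⟨x, hP x.2⟩) * k⁻¹
    refine Eq.trans ?_ h1
    exact congrArg κ (Subtype.ext (hg x))
  · rintro ⟨k, hk⟩
    let φ' : P →* S := φ.codRestrict S hφ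
    let ψ : P' →* G := (ι.comp φ').comp e'.symm.toMonoidHom
    have hψS : ∀ y, ψ y ∈ ι.range := fun y => ⟨_, rfl⟩
    have hψe : ∀ x : P, ψ (e x) = ι ⟨φ x, hφ x⟩ := fun x => by
      show ι (φ' (e'.symm (e' x))) = _
      rw [e'.symm_apply_apply]
      rfl
    have hψ : ψ ∈ (groupFusionSystem ι.range).Hom P' := by
      refine (hκ.2 P' hP' ψ hψS).2 ⟨k, fun y => ?_⟩
      obtain ⟨x, rfl⟩ := he.2 y
      refine Eq.trans ?_ (hk x)
      exact congrArg κ (Subtype.ext (hψe x))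
    obtain ⟨g, hg⟩ := hψ.2.2
    exact ⟨g, fun x => (hψe x).symm.trans (hg (e x))⟩

/-! ### Simple systems -/

/-- The inner system of a strongly closed abelian subgroup is normal. -/
theorem inner_isNormalIn_of_closed (hS : IsPGroup 2 S) {F : FusionSystem S} (hF : F.IsSaturated 2)
    {T : Subgroup Ω} (hT : F.StronglyClosed T) (hab : IsMulCommutative T) :
    (innerFusionSystem T).IsNormalIn F 2 := by
  haveI : Fact (Nat.Prime 2) := ⟨Nat.prime_two⟩
  haveI : Finite T := finite_of_le hT.1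
  have hN : F.IsNormal T := isNormal_of_abelian 2 hS hF hT hab
  have hI : ∀ {P : Subgroup Ω} {φ : P →* Ω}, φ ∈ (innerFusionSystem T).Hom P → ∀ x : P, φ x = x := by
    rintro P φ ⟨hP, g, hg, h⟩ x
    rw [h x, show g * (x : Ω) = x * g from congrArg Subtype.val (hab.is_comm.comm (⟨g, hg⟩ : T) ⟨x, hP x.2⟩),
      mul_inv_cancel_right]
  refine ⟨⟨innerSystem_saturated 2 (isPGroup_of_le hS hT.1), hF, ?_, hT, ?_, ?_⟩, ?_⟩
  · intro P φ hφ
    exact restrict_mem_of_eq (subtype_mem (F := F) (hφ.1.trans hT.1)) le_rfl fun x => hI hφ x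
  · intro P hP φ hφ α _
    have hPS : (P.subgroupOf T).map (T.subtype.comp α.toMonoidHom) ≤ T := by
      rintro _ ⟨x, -, rfl⟩
      exact (α x).2
    refine ⟨_, subtype_mem hPS, fun x hφx hαx => ?_⟩
    exact congrArg (fun z : T => ((α z : T) : Ω)) (Subtype.ext (hI hφ x).symm)
  · intro P hP φ hφ
    obtain ⟨ψ, hψ, he, hm⟩ := hN.2 P φ hφ
    let β := ψ.comp (Subgroup.inclusion (le_sup_right : T ≤ P ⊔ T))
    have hβ : β ∈ F.Hom T := restrict_mem hψ le_sup_right
    have hr : β.range = T := (range_restrict ψ le_sup_right).trans hm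
    refine ⟨_, autOfRange_mem hβ hr, P.subtype, subtype_mem hP, fun x hx => ?_⟩
    rw [← he x]
    exact apply_congr ψ rfl
  · intro α hα
    refine ⟨1, one_mem _, fun x => ?_, fun c _ => ?_⟩
    · exact (hI ((autGroup_carrier le_rfl).1 hα) x).symm
    · simp

theorem no_closed_abelian {F : FusionSystem S} (hS : IsPGroup 2 S) (hsimple : F.IsSimple 2)
    (h4 : 4 ≤ Nat.card S) {T : Subgroup Ω} (hT : F.StronglyClosed T) (hab : IsMulCommutative T) : T = ⊥ := by
  haveI : Fact (Nat.Prime 2) := ⟨Nat.prime_two⟩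
  rcases hsimple.2.2 _ _ (inner_isNormalIn_of_closed hS hsimple.1 hT hab) with h | ⟨h, -⟩
  · exact h
  subst h
  have := ((isSimple_abelian_iff 2 hS hsimple.1 fun x hx y hy =>
    congrArg Subtype.val (hab.is_comm.comm (⟨x, hx⟩ : T) ⟨y, hy⟩)).1 hsimple).1
  omega

theorem center_eq_bot {F : FusionSystem S} (hS : IsPGroup 2 S) (hsimple : F.IsSimple 2)
    (h4 : 4 ≤ Nat.card S) : F.center = ⊥ := by
  have hc : F.IsCentral F.center := isCentral_center
  refine no_closed_abelian hS hsimple h4 (stronglyClosed_of_isNormal (isNormal_of_isCentral hc))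
    ⟨⟨fun a b => Subtype.ext ?_⟩⟩
  have h1 := isCentral_fix hc (F.conj_mem (le_refl S) (hc.1 a.2)) (x := ⟨b, hc.1 b.2⟩) b.2
  exact mul_inv_eq_iff_eq_mul.1 h1

theorem tame_shape {F : FusionSystem S} (hS : IsPGroup 2 S) (hsimple : F.IsSimple 2)
    (hr : Cfsg.PRankAtLeast 2 2 S ∧ ¬ Cfsg.PRankAtLeast 2 3 S) :
    (∃ m : ℕ, 4 ≤ m ∧ Nonempty (S ≃* DihedralGroup m)) ∨ Cfsg.IsQuasiDihedral S ∨ Cfsg.IsWreathed S := by
  have h4 : 4 ≤ Nat.card S := by
    obtain ⟨A, -, -, hA⟩ := hr.1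
    exact le_trans hA (Subgroup.card_le_card_group A)
  letI : Fintype (GaloisField 2 4) := Fintype.ofFinite _
  have h16 : Fintype.card (GaloisField 2 4) = 16 := by
    rw [← Nat.card_eq_fintype_card, GaloisField.card 2 4 (by norm_num)]; norm_num
  obtain ⟨P⟩ : Nonempty (Sylow 2 (Cfsg.PSU 3 (GaloisField 2 4) 4)) := inferInstance
  rcases shape_of_center hS hsimple.1 hr (center_eq_bot hS hsimple h4) h16 P with h | h | h | ⟨n, -, ⟨e⟩⟩ | h
  · exact Or.inl h
  · exact Or.inr (Or.inl h)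
  · exact Or.inr (Or.inr h)
  · exfalso
    exact hsimple.2.1 (no_closed_abelian hS hsimple h4 stronglyClosed_top
      ⟨⟨fun a b => e.injective (by rw [map_mul, map_mul, mul_comm])⟩⟩)
  · exfalso
    obtain ⟨h1, -⟩ := u64_props ⟨_, _, _, h16, P, h⟩
    have hsc : F.StronglyClosed ((Subgroup.center S).map S.subtype) := by
      refine ⟨Subgroup.map_subtype_le _, fun Q hQ φ hφ x => ⟨⟨φ x, apply_mem_S hφ x⟩, (h1 _).2 (Subtype.ext ?_), rfl⟩⟩
      obtain ⟨a, ha, hax⟩ := hQ x.2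
      show φ x * φ x = 1
      have hxx : (x : Ω) * x = 1 := by
        rw [← hax]; exact congrArg Subtype.val ((h1 a).1 ha)
      rw [← map_mul, show x * x = 1 from Subtype.ext hxx, map_one]
    have hbot := no_closed_abelian hS hsimple h4 hsc ⟨⟨fun a b => by
      obtain ⟨a', ha', ea⟩ := a.2
      apply Subtype.ext
      show (a : Ω) * b = b * a
      obtain ⟨b', -, eb⟩ := b.2
      rw [← ea, ← eb]
      exact (congrArg (fun s : S => (s : Ω)) (Subgroup.mem_center_iff.1 ha' b')).symm⟩⟩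
    haveI : Nontrivial S := Finite.one_lt_card_iff_nontrivial.1 (by omega)
    haveI : Fact (Nat.Prime 2) := ⟨Nat.prime_two⟩
    haveI := hS.center_nontrivial
    obtain ⟨⟨c, hc⟩, hc1⟩ := exists_ne (1 : Subgroup.center S)
    have : (c : Ω) ∈ (Subgroup.center S).map S.subtype := ⟨c, hc, rfl⟩
    rw [hbot, Subgroup.mem_bot] at this
    exact hc1 (Subtype.ext (Subtype.ext this))

/-- A group realizing a simple system has no subgroup of index two. -/
theorem no_index_two_of_simple {F : FusionSystem S} (hS : IsPGroup 2 S) (hsimple : F.IsSimple 2)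
    (h4 : 4 ≤ Nat.card S) {G : Type u} [Group G] [Finite G] {ι : S →* G} (h : F.IsRealizedBy ι)
    (T : Sylow 2 G) (hT : (T : Subgroup G) = ι.range) (L : Subgroup G) : L.index ≠ 2 := by
  intro hL
  haveI : Fact (Nat.Prime 2) := ⟨Nat.prime_two⟩
  haveI := Subgroup.normal_of_index_eq_two hL
  rcases hsimple.2.2 _ _ (normalPart_isNormalIn 2 hS h T hT L) with hb | ⟨ht, -⟩
  · -- then `S` has order at most two
    have hinj : ∀ s : S, ι s ∈ L → s = 1 := fun s hs => by
      have h1 : (s : Ω) ∈ preimg ι L := mem_preimg.2 ⟨s.2, hs⟩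
      rw [hb, Subgroup.mem_bot] at h1
      exact Subtype.ext h1
    have hle : Nat.card S ≤ Nat.card (G ⧸ L) := by
      refine Nat.card_le_card_of_injective (fun s => QuotientGroup.mk' L (ι s)) fun a b hab => ?_
      have h1 := hinj (a⁻¹ * b) (by
        rw [map_mul, map_inv]
        exact (QuotientGroup.eq).1 hab)
      exact inv_mul_eq_one.1 h1
    rw [← Subgroup.index_eq_card, hL] at hle
    omega
  · have hTL : (T : Subgroup G) ≤ L := by
      rw [hT]
      rintro _ ⟨s, rfl⟩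
      have h1 : (s : Ω) ∈ preimg ι L := ht.ge s.2
      exact (mem_preimg.1 h1).2
    refine T.not_dvd_index ?_
    have h2 := Subgroup.index_dvd_of_le hTL
    rwa [hL] at h2

/-! ### The models -/

theorem psl_two_model (n : ℕ) : ∃ q : ℕ, ∃ _ : Fact q.Prime, q % 8 = 7 ∧
    ∃ (T : Sylow 2 (Matrix.ProjectiveSpecialLinearGroup (Fin 2) (ZMod q)))
      (D : CycData (T : Subgroup (Matrix.ProjectiveSpecialLinearGroup (Fin 2) (ZMod q)))),
      D.n = n ∧ D.k = -1 ∧ D.e = 0 ∧
        ∀ i, Tame.Moved (groupFusionSystem (T : Subgroup (Matrix.ProjectiveSpecialLinearGroup (Fin 2) (ZMod q)))) (D.E i) := by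
  obtain ⟨q, hq, hq4, hv⟩ := exists_prime_two_part (v := n + 3) (by omega)
  haveI : Fact q.Prime := ⟨hq⟩
  refine ⟨q, ⟨hq⟩, ?_, ?_⟩
  · have h8 : 2 ^ 3 ∣ q + 1 :=
      (pow_dvd_pow 2 (by omega : 3 ≤ n + 3)).trans (hv ▸ Nat.ordProj_dvd (q + 1) 2)
    omega
  have hodd : Odd (Fintype.card (ZMod q)) := by rw [ZMod.card, Nat.odd_iff]; omega
  obtain ⟨T⟩ : Nonempty (Sylow 2 (SL (ZMod q))) := inferInstance
  obtain ⟨D, hn, hk, he, hz⟩ := quaternion_data hodd (MonoidHom.id _) Function.injective_id T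
    (not_isCyclic_sylow_SL hodd T) (n := n + 1) (fact_SL hq4 hv)
  have hker : Subgroup.center (SL (ZMod q)) = Subgroup.zpowers (D.x ^ (2 * D.h)) := by
    refine le_antisymm (fun c hc => ?_) (Subgroup.zpowers_le.2 hz)
    rcases center_cases hc with rfl | rfl
    · exact one_mem _
    · rw [show negOne (ZMod q) = D.x ^ (2 * D.h) from
        ((center_cases hz).resolve_left D.z_ne_one).symm]
      exact Subgroup.mem_zpowers _
  have hπ : Function.Surjective (QuotientGroup.mk' (Subgroup.center (SL (ZMod q)))) := QuotientGroup.mk'_surjective _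
  obtain ⟨D', hn', hk', he'⟩ := D.exists_quotient T hn hk hπ ((QuotientGroup.ker_mk' _).trans hker)
  exact ⟨T.mapSurjective hπ, D', hn', hk', he', both_moved _ D' (Or.inr (by rw [he']; exact dvd_zero _))
    (no_index_two_of_surjective _ hπ (sl_no_index_two (two_ne_zero_of_odd hodd)))⟩

theorem psl_three_equiv {K : Type} [Field K] [Fintype K] (hodd : Fintype.card K % 2 = 1)
    (S : Sylow 2 (Matrix.ProjectiveSpecialLinearGroup (Fin 3) K)) (P : Sylow 2 (GL (Fin 2) K)) :
    Nonempty ((P : Subgroup (GL (Fin 2) K)) ≃* (S : Subgroup (Matrix.ProjectiveSpecialLinearGroup (Fin 3) K))) ∧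
      (Nat.card (Matrix.ProjectiveSpecialLinearGroup (Fin 3) K)).factorization 2 =
        (Nat.card (GL (Fin 2) K)).factorization 2 := by
  classical
  have hker : ∀ g, ((QuotientGroup.mk' (Subgroup.center (Matrix.SpecialLinearGroup (Fin 3) K))).comp emb) g = 1 → g ^ 3 = 1 := fun g hg => by
    obtain ⟨r, -, hr⟩ := Matrix.SpecialLinearGroup.mem_center_iff.1 ((QuotientGroup.eq_one_iff _).1 hg)
    refine eq_scalar_of_embMat (r := r) ?_
    show embMat g = _
    rw [show embMat g = ((emb g : Matrix.SpecialLinearGroup (Fin 3) K) : Matrix (Fin 3) (Fin 3) K) from rfl, ← hr]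
    ext i j; simp [Matrix.one_apply, Matrix.diagonal_apply]
  have ha : Odd (Nat.gcd 3 (Fintype.card K - 1)) := Odd.of_dvd_nat (by decide : Odd 3) (Nat.gcd_dvd_left _ _)
  have hq : Odd (Fintype.card K) := Nat.odd_iff.2 hodd
  have hb : Odd (Fintype.card K ^ 2 * (Fintype.card K ^ 2 + Fintype.card K + 1)) :=
    hq.pow.mul ((hq.pow.add_odd hq).add_one)
  have hcard : Nat.gcd 3 (Fintype.card K - 1) * Nat.card (Matrix.ProjectiveSpecialLinearGroup (Fin 3) K) = (Fintype.card K ^ 2 * (Fintype.card K ^ 2 + Fintype.card K + 1)) * Nat.card (GL (Fin 2) K) := by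
    have h := CfsgLib.Linear.card_PSL_mul (F := K) rfl 3 (by norm_num)
    rw [Fin.prod_univ_three] at h
    simp only [Fin.val_zero, Fin.val_one, Fin.val_two, pow_zero, pow_one] at h
    refine Nat.eq_of_mul_eq_mul_left (show 0 < Fintype.card K - 1 by
      have := Fintype.one_lt_card (α := K); omega) ?_
    rw [mul_left_comm, h, card_GL_two]
    obtain ⟨c, hc⟩ : ∃ c, Fintype.card K = c + 1 := ⟨Fintype.card K - 1, by have := Fintype.card_pos (α := K); omega⟩
    rw [hc, Nat.add_sub_cancel,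
      show (c + 1) ^ 3 - 1 = c * (c * c + 3 * c + 3) by
        rw [Nat.sub_eq_iff_eq_add (Nat.one_le_pow _ _ (by omega))]; ring,
      show (c + 1) ^ 3 - (c + 1) = c * ((c + 1) * (c + 2)) by
        rw [Nat.sub_eq_iff_eq_add (Nat.le_self_pow (by norm_num) _)]; ring,
      show (c + 1) ^ 3 - (c + 1) ^ 2 = c * (c + 1) ^ 2 by
        rw [Nat.sub_eq_iff_eq_add (Nat.pow_le_pow_right (by omega) (by norm_num))]; ring]
    ring
  refine ⟨sylow_equiv_of_hom ((QuotientGroup.mk' (Subgroup.center (Matrix.SpecialLinearGroup (Fin 3) K))).comp emb)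
    (N := 3) (by decide) hker ha hb hcard P S, ?_⟩
  have h := congrArg (fun k => k.factorization 2) hcard
  simp only [Nat.factorization_mul ha.pos.ne' Nat.card_pos.ne', Nat.factorization_mul hb.pos.ne' Nat.card_pos.ne',
    Finsupp.add_apply, fact_two_of_odd ha, fact_two_of_odd hb, zero_add] at h
  exact h

theorem psl_three_model_qd {n : ℕ} (hn : 1 ≤ n) : ∃ q : ℕ, ∃ _ : Fact q.Prime, Odd q ∧
    ∃ (T : Sylow 2 (Matrix.ProjectiveSpecialLinearGroup (Fin 3) (ZMod q)))
      (D : CycData (T : Subgroup (Matrix.ProjectiveSpecialLinearGroup (Fin 3) (ZMod q)))),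
      D.n = n ∧ D.k = 2 * 2 ^ n - 1 ∧ D.e = 0 ∧
        ∀ i, Tame.Moved (groupFusionSystem (T : Subgroup (Matrix.ProjectiveSpecialLinearGroup (Fin 3) (ZMod q)))) (D.E i) := by
  classical
  obtain ⟨q, hq, hq4, hv⟩ := exists_prime_two_part (v := n + 1) (by omega)
  haveI : Fact q.Prime := ⟨hq⟩
  have hF : Fintype.card (ZMod q) % 2 = 1 := by rw [ZMod.card]; omega
  obtain ⟨P⟩ : Nonempty (Sylow 2 (GL (Fin 2) (ZMod q))) := inferInstance
  obtain ⟨T⟩ : Nonempty (Sylow 2 (Matrix.ProjectiveSpecialLinearGroup (Fin 3) (ZMod q))) := inferInstance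
  obtain ⟨⟨e⟩, hfe⟩ := psl_three_equiv hF T P
  obtain ⟨D, hn', hk, he⟩ := qd_params T
    (CfsgLib.InvolPattern.isQuasiDihedral_congr e (sylow_GL_two_quasiDihedral (by rw [ZMod.card]; exact hq4) P))
    (n := n) (hfe.trans (fact_GL hq4 hv))
  exact ⟨q, ⟨hq⟩, Nat.odd_iff.2 (by omega), T, D, hn', hk, he,
    both_moved T D (Or.inl (by omega)) (psl_three_no_index_two (F := ZMod q) hF)⟩

theorem psl_three_model_wreath (k : ℕ) : ∃ q : ℕ, ∃ _ : Fact q.Prime, Odd q ∧
    ∃ (T : Sylow 2 (Matrix.ProjectiveSpecialLinearGroup (Fin 3) (ZMod q)))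
      (D : CfsgLib.Wreath.Data (T : Subgroup (Matrix.ProjectiveSpecialLinearGroup (Fin 3) (ZMod q)))),
      D.k = k ∧ WData.Std D (groupFusionSystem (T : Subgroup (Matrix.ProjectiveSpecialLinearGroup (Fin 3) (ZMod q)))) ∧
        WData.MovedX D (groupFusionSystem (T : Subgroup (Matrix.ProjectiveSpecialLinearGroup (Fin 3) (ZMod q)))) := by
  classical
  obtain ⟨q, hq, hq4, hv⟩ := exists_prime_pred_two_part (v := k + 2) (by omega)
  haveI : Fact q.Prime := ⟨hq⟩
  have hF : Fintype.card (ZMod q) % 2 = 1 := by rw [ZMod.card]; omega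
  obtain ⟨P⟩ : Nonempty (Sylow 2 (GL (Fin 2) (ZMod q))) := inferInstance
  obtain ⟨T⟩ : Nonempty (Sylow 2 (Matrix.ProjectiveSpecialLinearGroup (Fin 3) (ZMod q))) := inferInstance
  obtain ⟨⟨e⟩, hfe⟩ := psl_three_equiv hF T P
  obtain ⟨D⟩ := CfsgLib.Wreath.exists_data
    (CfsgLib.InvolPattern.isWreathed_congr e (sylow_GL_two_wreathed (by rw [ZMod.card]; exact hq4) P))
  have hk : D.k = k := by
    have h1 := D.card_eq
    rw [Sylow.card_eq_multiplicity, hfe, fact_GL_one hq4 hv, D.hq,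
      show 2 * (4 * 2 ^ D.k) ^ 2 = 2 ^ (2 * (D.k + 2) + 1) by ring] at h1
    have := Nat.pow_right_injective le_rfl h1
    omega
  have hG := psl_three_no_index_two (F := ZMod q) hF
  obtain ⟨D₁, hk₁, hs⟩ := WData.exists_std D (groupFusion_saturated T) (WData.both_moved T D hG).1
  exact ⟨q, ⟨hq⟩, Nat.odd_iff.2 (by omega), T, D₁, hk₁.trans hk, hs, (WData.both_moved T D₁ hG).2⟩

/-- The classification of the simple systems. -/
theorem simple_models {F : FusionSystem S} (hS : IsPGroup 2 S) (hsimple : F.IsSimple 2)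
    (hr : Cfsg.PRankAtLeast 2 2 S ∧ ¬ Cfsg.PRankAtLeast 2 3 S) :
    ∃ (K : Type) (_ : Field K) (_ : Fintype K) (q : ℕ), Fintype.card K = q ∧ Odd q ∧
      (((q % 8 = 1 ∨ q % 8 = 7) ∧ ∃ ι : ↥S →* Matrix.ProjectiveSpecialLinearGroup (Fin 2) K, F.IsRealizedBy ι ∧
          ∃ T : Sylow 2 (Matrix.ProjectiveSpecialLinearGroup (Fin 2) K),
            (T : Subgroup (Matrix.ProjectiveSpecialLinearGroup (Fin 2) K)) = ι.range) ∨
        (∃ ι : ↥S →* Matrix.ProjectiveSpecialLinearGroup (Fin 3) K, F.IsRealizedBy ι ∧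
          ∃ T : Sylow 2 (Matrix.ProjectiveSpecialLinearGroup (Fin 3) K),
            (T : Subgroup (Matrix.ProjectiveSpecialLinearGroup (Fin 3) K)) = ι.range)) := by
  haveI : Fact (Nat.Prime 2) := ⟨Nat.prime_two⟩
  have h4 : 4 ≤ Nat.card S := by
    obtain ⟨A, -, -, hA⟩ := hr.1
    exact le_trans hA (Subgroup.card_le_card_group A)
  obtain ⟨G, _, _, ι, hι, T, hT⟩ := realizable_of_center hS hsimple.1 hr (center_eq_bot hS hsimple h4)
  have hG := no_index_two_of_simple hS hsimple h4 hι T hT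
  let e : S ≃* (T : Subgroup G) := (MonoidHom.ofInjective hι.1).trans (MulEquiv.subgroupCongr hT.symm)
  have hTp : IsPGroup 2 (T : Subgroup G) := T.isPGroup'
  rcases tame_shape hS hsimple hr with ⟨m, hm, ⟨f⟩⟩ | hQ | hW
  · obtain ⟨N, hN⟩ := IsPGroup.iff_card.1 hS
    haveI : NeZero m := ⟨by omega⟩
    have h1 : m ∣ 2 ^ N := ⟨2, by rw [← hN, Nat.card_congr f.toEquiv, DihedralGroup.nat_card, mul_comm]⟩
    obtain ⟨j, -, rfl⟩ := (Nat.dvd_prime_pow Nat.prime_two).1 h1
    have hj : 2 ≤ j := by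
      by_contra h
      interval_cases j <;> omega
    obtain ⟨D, hn, hk, he⟩ := CycData.exists_dihedral (n := j - 2) (by
      rw [show 4 * 2 ^ (j - 2) = 2 ^ (j - 2 + 2) by ring]; congr 1; omega) (e.symm.trans f)
    obtain ⟨q, _, hq8, T', D', hn', hk', he', hmv⟩ := psl_two_model D.n
    have hP : D.Proper := Or.inr (by rw [he]; exact dvd_zero _)
    obtain ⟨κ, hκ, hκr⟩ := ident_cyc D hP (groupFusion_saturated T) (both_moved T D hP hG) T' D'
      ⟨hn'.symm, by rw [hk, hk', sub_self]; exact dvd_zero _, by rw [he, he', sub_self]; exact dvd_zero _⟩ hmv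
    obtain ⟨χ, hχ, hχr⟩ := realizedBy_comp hι hT hκ
    exact ⟨ZMod q, inferInstance, inferInstance, q, ZMod.card q, Nat.odd_iff.2 (by omega),
      Or.inl ⟨Or.inr hq8, χ, hχ, T', hκr.trans hχr.symm⟩⟩
  · obtain ⟨D, hn, hk, he⟩ := CycData.exists_quasiDihedral (CfsgLib.InvolPattern.isQuasiDihedral_congr e hQ)
    obtain ⟨q, _, hq, T', D', hn', hk', he', hmv⟩ := psl_three_model_qd hn
    have hP : D.Proper := Or.inl hn
    obtain ⟨κ, hκ, hκr⟩ := ident_cyc D hP (groupFusion_saturated T) (both_moved T D hP hG) T' D'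
      ⟨hn'.symm, by rw [hk, hk', sub_self]; exact dvd_zero _, by rw [he, he', sub_self]; exact dvd_zero _⟩ hmv
    obtain ⟨χ, hχ, hχr⟩ := realizedBy_comp hι hT hκ
    exact ⟨ZMod q, inferInstance, inferInstance, q, ZMod.card q, hq,
      Or.inr ⟨χ, hχ, T', hκr.trans hχr.symm⟩⟩
  · obtain ⟨D⟩ := CfsgLib.Wreath.exists_data (CfsgLib.InvolPattern.isWreathed_congr e hW)
    obtain ⟨D₁, -, hs⟩ := WData.exists_std D (groupFusion_saturated T) (WData.both_moved T D hG).1
    obtain ⟨q, _, hq, T', D', hk', hs', hX'⟩ := psl_three_model_wreath D₁.k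
    obtain ⟨κ, hκ, hκr⟩ := ident_wreath D₁ (groupFusion_saturated T) hs (WData.both_moved T D₁ hG).2 T' D'
      hk'.symm hs' hX'
    obtain ⟨χ, hχ, hχr⟩ := realizedBy_comp hι hT hκ
    exact ⟨ZMod q, inferInstance, inferInstance, q, ZMod.card q, hq,
      Or.inr ⟨χ, hχ, T', hκr.trans hχr.symm⟩⟩

end CfsgLib.TwoRankTwo
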