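import Cfsg.Agent.SylowU34.Main

/-!
An automorphism of a Sylow 2-subgroup of `PSU₃(4)` whose square is inner fixes the centre.
-/

set_option autoImplicit false
set_option linter.style.haveILetI false

namespace CfsgLib.TwoRankTwo

open CfsgLib.SixtyFour CfsgLib.SylowU34

local notation "sqz" => CfsgLib.SylowU34.sq

set_option maxRecDepth 100000 in
theorem stab_invol : (stabList.all fun a => !((List.range 16).all fun x => app a (app a x) == x) ||
    ((List.range 16).all fun x => sqz (app a x) == sqz x)) = true := by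
  decide +kernel

theorem u64_fix {T : Type*} [Group T] [Finite T]
    (hT : ∃ (F : Type) (_ : Field F) (_ : Fintype F), Fintype.card F = 16 ∧ ∃ S : Sylow 2 (Cfsg.PSU 3 F 4),
      Nonempty (T ≃* ↥(S : Subgroup (Cfsg.PSU 3 F 4))))
    (σ : MulAut T) (t : T) (hσ : ∀ x, σ (σ x) = t * x * t⁻¹) {z : T} (hz : z ∈ Subgroup.center T) :
    σ z = z := by
  classical
  obtain ⟨F, _, _, hF, P, ⟨e⟩⟩ := hT
  haveI : Fact (Nat.Prime 2) := ⟨Nat.prime_two⟩
  haveI : CharP F 2 := by
    obtain ⟨n, hp, hn⟩ := FiniteField.card F (ringChar F)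
    have h2 : ringChar F = 2 := by
      have h16 : ringChar F ∣ 2 ^ 4 := by
        rw [show (2 : ℕ) ^ 4 = ringChar F ^ (n : ℕ) by rw [← hn, hF]; norm_num]
        exact dvd_pow_self _ n.ne_zero
      exact (Nat.prime_dvd_prime_iff_eq hp Nat.prime_two).1 (hp.dvd_of_dvd_pow h16)
    exact h2 ▸ ringChar.charP F
  obtain ⟨R, hR⟩ := exists_rel_psu hF
  have hfac : (Nat.card (Cfsg.PSU 3 F 4)).factorization 2 = 6 := by
    rw [card_psu_three_four hF, show 64 = 2 ^ 6 by norm_num, Nat.factorization_mul (by norm_num) (by norm_num),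
      Finsupp.add_apply, Nat.Prime.factorization_pow Nat.prime_two, Finsupp.single_eq_same,
      Nat.factorization_eq_zero_of_not_dvd (show ¬ 2 ∣ 975 by norm_num)]
  let P0 : Sylow 2 (Cfsg.PSU 3 F 4) := Sylow.ofCard R.span (by rw [R.card_span hR, hfac]; norm_num)
  let f : T ≃* R.span := e.trans (P.equiv P0)
  let r : MulAut R.span := (f.symm.trans σ).trans f
  have hr : ∀ x, r (f x) = f (σ x) := fun x => by
    show f (σ (f.symm (f x))) = _
    rw [f.symm_apply_apply]
  obtain ⟨a, ha, hA⟩ := exists_matrix R hR r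
  let W : Vec ≃ R.span := Equiv.ofBijective _ (word_bijective R hR)
  have hA' : ∀ g, proj (W.symm (r g)) = app a (proj (W.symm g)) := fun g =>
    hA _ _ (show r (W (W.symm g)) = W (W.symm (r g)) by rw [W.apply_symm_apply, W.apply_symm_apply])
  have hmulW : ∀ v w, W (mulV v w) = W v * W w := fun v w => Subtype.ext (word_mul R v w)
  have hpmul : ∀ g h, proj (W.symm (g * h)) = proj (W.symm g) ^^^ proj (W.symm h) := fun g h => by
    rw [← proj_mul]
    congr 1
    apply W.injective
    rw [W.apply_symm_apply, hmulW, W.apply_symm_apply, W.apply_symm_apply]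
  have hcent : ∀ g, g ∈ Subgroup.center R.span ↔ proj (W.symm g) = 0 := fun g => by
    rw [← central_iff, Subgroup.mem_center_iff]
    constructor
    · intro h w
      apply W.injective
      rw [hmulW, hmulW, W.apply_symm_apply, h (W w)]
    · intro h x
      have h2 := congrArg W (h (W.symm x))
      rw [hmulW, hmulW, W.apply_symm_apply, W.apply_symm_apply] at h2
      exact h2.symm
  have hinv : ∀ g, proj (W.symm (r (r g))) = proj (W.symm g) := fun g => by
    obtain ⟨x, rfl⟩ := f.surjective g
    rw [hr, hr, hσ, map_mul f, map_mul f, hpmul, hpmul, Nat.xor_comm (proj (W.symm (f t))), Nat.xor_assoc, ← hpmul,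
      ← map_mul f, mul_inv_cancel, map_one f, (hcent 1).1 (one_mem _), Nat.xor_zero]
  have happ : ∀ x, x < 16 → app a (app a x) = x := fun x hx => by
    have h := hinv (W (lift x))
    rwa [hA', hA', W.symm_apply_apply, proj_lift x hx] at h
  have hsqa : ∀ x, x < 16 → sqz (app a x) = sqz x := by
    have h := stab_invol
    simp only [List.all_eq_true, Bool.or_eq_true, Bool.not_eq_true'] at h
    rcases h a ha with h | h
    · exfalso
      have h2 : ((List.range 16).all fun x => app a (app a x) == x) = true :=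
        List.all_eq_true.2 fun x hx => beq_iff_eq.2 (happ x (List.mem_range.1 hx))
      rw [h] at h2
      exact Bool.false_ne_true h2
    · exact fun x hx => beq_iff_eq.1 (h x (List.mem_range.2 hx))
  have hsquare : ∀ g, g * g = W (cvec (sqz (proj (W.symm g)))) := fun g => by
    rw [← mul_self_eq, hmulW, W.apply_symm_apply]
  have hfix : ∀ g, r (g * g) = g * g := fun g => by
    rw [map_mul, hsquare (r g), hsquare g, hA', hsqa _ (proj_lt _).1]
  have hcase : ∀ k, k < 4 → ∃ x, x < 16 ∧ sqz x = k := by decide +kernel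
  apply f.injective
  rw [← hr]
  have hfz : f z ∈ Subgroup.center R.span := Subgroup.mem_center_iff.2 fun g => by
    obtain ⟨x, rfl⟩ := f.surjective g
    rw [← map_mul, ← map_mul, Subgroup.mem_center_iff.1 hz x]
  obtain ⟨x, hx, hx'⟩ := hcase _ (proj_lt (W.symm (f z))).2.1
  have h : f z = W (lift x) * W (lift x) := by
    rw [hsquare, W.symm_apply_apply, proj_lift x hx, hx', ← central_eq _ ((hcent _).1 hfz), W.apply_symm_apply]
  rw [h]
  exact hfix _

end CfsgLib.TwoRankTwo
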