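import Cfsg.Agent.TwoRankTwo.Swap
import Cfsg.Agent.TwoRankTwo.U64Aut

/-!
2-groups of rank two in which every central involution is fused to another element.
-/

set_option autoImplicit false
set_option linter.style.haveILetI false
set_option linter.unusedSectionVars false

namespace CfsgLib.TwoRankTwo

open Subgroup

universe u

/-- A conjugacy relation on `S`: symmetric, moving each central involution, and with maps to central
elements extending to centralizers. -/
structure Moved (S : Type u) [Group S] where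
  R : S → S → Prop
  symm : ∀ {x y : S}, R x y → R y x
  moved : ∀ z ∈ center S, z * z = 1 → z ≠ 1 → ∃ y, y ≠ z ∧ R y z
  ext : ∀ {y z : S}, z ∈ center S → R y z → ∃ ψ : centralizer ({y} : Set S) →* S, Function.Injective ψ ∧
    (∀ w : centralizer ({y} : Set S), R w (ψ w)) ∧ ∀ w : centralizer ({y} : Set S), (w : S) = y → ψ w = z

theorem fix_free_perm : ∀ g h : Equiv.Perm (Fin 3), ∀ i, g i = i → g ≠ 1 → h i ≠ i →
    (∀ j, h j ≠ j) ∨ ∀ j, (g * h) j ≠ j := by decide +kernel

theorem fix_free_trans : ∀ g : Equiv.Perm (Fin 3), (∀ j, g j ≠ j) →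
    ∀ i j, i = j ∨ g i = j ∨ g (g i) = j := by decide +kernel

variable {T : Type u} [Group T] [Finite T]

/-- Automorphisms moving each of three involutions give a transitive one. -/
theorem exists_trans (h3 : Nat.card {x : T // orderOf x = 2} = 3)
    (h : ∀ x : T, orderOf x = 2 → ∃ φ : MulAut T, φ x ≠ x) :
    ∃ φ : MulAut T, ∀ s t : T, orderOf s = 2 → orderOf t = 2 → ∃ k : ℕ, (φ ^ k) s = t := by
  classical
  let e : {x : T // orderOf x = 2} ≃ Fin 3 := Finite.equivFinOfCardEq h3
  let P : MulAut T → Equiv.Perm (Fin 3) := fun φ =>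
    (e.symm.trans (φ.toEquiv.subtypeEquiv (q := fun x => orderOf x = 2) fun x => by
      show orderOf x = 2 ↔ orderOf (φ x) = 2
      rw [φ.orderOf_eq])).trans e
  have hP : ∀ φ i, (e.symm (P φ i) : T) = φ (e.symm i) := fun φ i => by
    show (e.symm (e _) : T) = _
    rw [e.symm_apply_apply]
    rfl
  have hPmul : ∀ φ ψ, P (φ * ψ) = P φ * P ψ := fun φ ψ => Equiv.ext fun i => by
    apply e.symm.injective
    apply Subtype.ext
    rw [Equiv.Perm.mul_apply, hP, hP, hP]
    rfl
  have hmov : ∀ i, ∃ φ, P φ i ≠ i := fun i => by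
    obtain ⟨φ, hφ⟩ := h _ (e.symm i).2
    exact ⟨φ, fun hh => hφ (by rw [← hP, hh])⟩
  obtain ⟨φ, hφ⟩ : ∃ φ, ∀ j, P φ j ≠ j := by
    obtain ⟨g, hg⟩ := hmov 0
    by_cases hall : ∀ j, P g j ≠ j
    · exact ⟨g, hall⟩
    push Not at hall
    obtain ⟨i, hi⟩ := hall
    obtain ⟨k, hk⟩ := hmov i
    rcases fix_free_perm (P g) (P k) i hi (fun h1 => hg (by rw [h1]; rfl)) hk with h1 | h1
    · exact ⟨k, h1⟩
    · exact ⟨g * k, fun j => by rw [hPmul]; exact h1 j⟩
  refine ⟨φ, fun s t hs ht => ?_⟩
  have hs' : (e.symm (e ⟨s, hs⟩) : T) = s := by rw [e.symm_apply_apply]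
  have ht' : (e.symm (e ⟨t, ht⟩) : T) = t := by rw [e.symm_apply_apply]
  rcases fix_free_trans (P φ) hφ (e ⟨s, hs⟩) (e ⟨t, ht⟩) with h1 | h1 | h1
  · exact ⟨0, by rw [pow_zero, MulAut.one_apply, ← hs', h1, ht']⟩
  · exact ⟨1, by rw [pow_one, ← ht', ← h1, hP, hs']⟩
  · exact ⟨2, by rw [pow_two, MulAut.mul_apply, ← ht', ← h1, hP, hP, hs']⟩

variable {S : Type u} [Group S] [Finite S] {E : Subgroup S}

/-- An involution centralizing a four-group lies in it. -/
theorem mem_of_commute_four (hS : IsPGroup 2 S) (hr : ¬ Cfsg.PRankAtLeast 2 3 S)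
    (hE : Cfsg.IsElementaryAbelian 2 E) (hE4 : Nat.card E = 4) {t : S} (ht : t * t = 1)
    (hc : ∀ v ∈ E, v * t = t * v) : t ∈ E := by
  haveI : Fact (Nat.Prime 2) := ⟨Nat.prime_two⟩
  by_contra h
  refine hr ⟨closure ((E : Set S) ∪ {t}), ?_⟩
  have hA : Cfsg.IsElementaryAbelian 2 (closure ((E : Set S) ∪ {t})) := by
    refine CfsgLib.NormalFour.of_gens ?_ ?_
    · rintro x (hx | rfl) y (hy | rfl)
      · exact congrArg Subtype.val (hE.1.is_comm.comm (⟨x, hx⟩ : E) ⟨y, hy⟩)
      · exact hc x hx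
      · exact (hc y hy).symm
      · rfl
    · rintro x (hx | rfl)
      · exact hE.2 x hx
      · rw [pow_two]; exact ht
  refine ⟨hA.1, hA.2, ?_⟩
  obtain ⟨k, hk⟩ := IsPGroup.iff_card.1 (hS.to_subgroup (closure ((E : Set S) ∪ {t})))
  have hlt : E < closure ((E : Set S) ∪ {t}) :=
    SetLike.lt_iff_le_and_exists.2 ⟨fun x hx => subset_closure (Or.inl hx), t, subset_closure (Or.inr rfl), h⟩
  have h4 : Nat.card E < Nat.card (closure ((E : Set S) ∪ {t})) := by
    by_contra hle
    exact hlt.ne (eq_of_le_of_card_ge hlt.le (not_lt.1 hle))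
  rw [hE4, hk] at h4
  rw [hk]
  refine Nat.pow_le_pow_right two_pos ?_
  by_contra hk3
  have : 2 ^ k ≤ 2 ^ 2 := Nat.pow_le_pow_right two_pos (by omega)
  omega

theorem rank_hyps (hS : IsPGroup 2 S) (hr : ¬ Cfsg.PRankAtLeast 2 3 S) (hE : Cfsg.IsElementaryAbelian 2 E)
    (hE4 : Nat.card E = 4) (T : Subgroup S) (hET : E ≤ T) :
    Cfsg.PRankLE 2 2 T ∧ ¬ Cfsg.PRankLE 2 1 T := by
  haveI : Fact (Nat.Prime 2) := ⟨Nat.prime_two⟩
  refine ⟨fun A hAc hA2 => ?_, fun h => ?_⟩
  · obtain ⟨k, hk⟩ := IsPGroup.iff_card.1 ((hS.to_subgroup T).to_subgroup A)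
    rw [hk]
    refine Nat.pow_le_pow_right two_pos ?_
    by_contra hk2
    refine hr ⟨A.map T.subtype, ?_, ?_, ?_⟩
    · exact ⟨⟨fun a b => by
        obtain ⟨a', ha', ea⟩ := a.2
        obtain ⟨b', hb', eb⟩ := b.2
        apply Subtype.ext
        show (a : S) * b = b * a
        rw [← ea, ← eb, ← map_mul, ← map_mul]
        exact congrArg _ (congrArg Subtype.val (hAc.is_comm.comm (⟨a', ha'⟩ : A) ⟨b', hb'⟩))⟩⟩
    · rintro _ ⟨a, ha, rfl⟩
      rw [← map_pow, hA2 a ha, map_one]
    · rw [card_map_of_injective T.subtype_injective, hk]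
      exact Nat.pow_le_pow_right two_pos (by omega)
  · have hc : IsMulCommutative (E.subgroupOf T) := ⟨⟨fun a b => by
      apply Subtype.ext
      apply Subtype.ext
      show ((a : T) : S) * ((b : T) : S) = ((b : T) : S) * ((a : T) : S)
      exact congrArg Subtype.val (hE.1.is_comm.comm (⟨((a : T) : S), a.2⟩ : E) ⟨((b : T) : S), b.2⟩)⟩⟩
    have := h (E.subgroupOf T) hc fun a ha => Subtype.ext (hE.2 _ ha)
    rw [Nat.card_congr (subgroupOfEquivOfLe hET).toEquiv, hE4] at this
    omega

theorem card_invol (T : Subgroup S) (hET : E ≤ T) (hE : Cfsg.IsElementaryAbelian 2 E)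
    (hE4 : Nat.card E = 4) (hT : ∀ t ∈ T, t * t = 1 → t ∈ E) :
    Nat.card {x : T // orderOf x = 2} = 3 := by
  classical
  have e : {x : T // orderOf x = 2} ≃ {x : E // ¬ x = 1} :=
    { toFun := fun x => ⟨⟨((x : T) : S), hT _ (x : T).2 (by
          rw [← pow_two]; exact orderOf_dvd_iff_pow_eq_one.1 (by rw [Subgroup.orderOf_coe, x.2]))⟩,
        fun h => by
          have h1 : ((x : T) : S) = 1 := congrArg Subtype.val h
          have := x.2
          rw [← Subgroup.orderOf_coe, h1, orderOf_one] at this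
          omega⟩
      invFun := fun x => ⟨⟨((x : E) : S), hET (x : E).2⟩, by
        rw [Subgroup.orderOf_mk]
        exact orderOf_eq_prime (p := 2) (hp := ⟨Nat.prime_two⟩) (hE.2 _ (x : E).2) fun h => x.2 (Subtype.ext h)⟩
      left_inv := fun x => rfl
      right_inv := fun x => rfl }
  haveI := Fintype.ofFinite E
  rw [Nat.card_congr e, Nat.card_eq_fintype_card, Fintype.card_subtype_compl, Fintype.card_subtype_eq,
    ← Nat.card_eq_fintype_card, hE4]

/-- Restriction of conjugation to a normal subgroup. -/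
def conjN (T : Subgroup S) [T.Normal] (s : S) : MulAut T := MulAut.conjNormal s

theorem conjN_apply (T : Subgroup S) [T.Normal] (s : S) (x : T) : (conjN T s x : S) = s * x * s⁻¹ :=
  MulAut.conjNormal_apply s x

/-- Index two, with the subgroup admitting a map moving the fixed involution. -/
theorem index_two_transitive (hS : IsPGroup 2 S) {A : Type*} [Group A] (hr : ¬ Cfsg.PRankAtLeast 2 3 S)
    (hE : Cfsg.IsElementaryAbelian 2 E) (hE4 : Nat.card E = 4) {T : Subgroup S} (hi : T.index = 2)
    (hET : E ≤ T) (hTE : ∀ t ∈ T, t * t = 1 → t ∈ E) (hTn : ∀ g ∉ T, ∀ v ∈ E, g * v = v * g → v = 1 ∨ v ∈ center S)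
    {s : S} (hs : s ∉ T) {z e : S} (hz : z ∈ center S) (he : e ∈ E) (he1 : e ≠ 1) (hez : e ∉ center S)
    (α : MulAut T) (hα : (α ⟨e, hET he⟩ : S) = z) : Shape S A := by
  classical
  haveI : Fact (Nat.Prime 2) := ⟨Nat.prime_two⟩
  haveI : T.Normal := normal_of_index_eq_two hi
  have he2 : orderOf e = 2 := orderOf_eq_prime (hE.2 e he) he1
  have hne : s * e * s⁻¹ ≠ e := fun h => by
    rcases hTn s hs e he (mul_inv_eq_iff_eq_mul.1 h) with h1 | h1
    · exact he1 h1
    · exact hez h1
  obtain ⟨φ, hφ⟩ := exists_trans (card_invol T hET hE hE4 hTE) fun x hx => by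
    by_cases hxc : (x : S) ∈ center S
    · refine ⟨α, fun h => ?_⟩
      by_cases hxz : (x : S) = z
      · have h1 : α x = α ⟨e, hET he⟩ := by rw [h]; exact Subtype.ext (hxz.trans hα.symm)
        have h5 : (x : S) = e := congrArg Subtype.val (α.injective h1)
        exact hez (h5 ▸ hxc)
      · -- then every element of the four-group would be central
        have hxE : (x : S) ∈ E := hTE _ x.2 (by
          rw [← pow_two, show (2 : ℕ) = orderOf (x : S) by rw [Subgroup.orderOf_coe, hx], pow_orderOf_eq_one])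
        have hx1 : (x : S) ≠ 1 := fun h1 => by
          rw [← Subgroup.orderOf_coe, h1, orderOf_one] at hx; omega
        have hz2 : z * z = 1 := by
          rw [← hα, ← Subgroup.coe_mul, ← map_mul, show (⟨e, hET he⟩ * ⟨e, hET he⟩ : T) = 1 from
            Subtype.ext (by show e * e = 1; rw [← pow_two]; exact hE.2 e he), map_one, OneMemClass.coe_one]
        have hz1 : z ≠ 1 := fun h1 => he1 (congrArg Subtype.val
          (α.injective ((Subtype.ext (hα.trans h1) : α ⟨e, hET he⟩ = 1).trans (map_one α).symm)))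
        have hzE : z ∈ E := hTE z (hα ▸ (α _).2) hz2
        let g : Fin 4 → (E ⊓ center S : Subgroup S) := ![⟨1, one_mem _⟩, ⟨z, hzE, hz⟩, ⟨x, hxE, hxc⟩,
          ⟨x * z, mul_mem hxE hzE, mul_mem hxc hz⟩]
        have hg : Function.Injective g := by
          intro a b hab
          have hv := congrArg Subtype.val hab
          have h3 : (x : S) * z ≠ 1 := fun h1 => hxz (by
            rw [mul_eq_one_iff_eq_inv] at h1
            rw [h1, inv_eq_of_mul_eq_one_left hz2])
          fin_cases a <;> fin_cases b <;>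
            first
              | rfl
              | (exfalso; simp [g, hx1, hz1, hxz, h3, Ne.symm hx1, Ne.symm hz1, Ne.symm hxz, Ne.symm h3] at hv)
        have h4 := Nat.card_le_card_of_injective g hg
        rw [Nat.card_fin] at h4
        have : E ⊓ center S = E := eq_of_le_of_card_ge inf_le_left (by omega)
        exact hez ((this.ge he).2)
    · refine ⟨conjN T s, fun h => ?_⟩
      have h2 := congrArg Subtype.val h
      rw [conjN_apply] at h2
      have hxE : (x : S) ∈ E := hTE _ x.2 (by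
        rw [← pow_two, show (2 : ℕ) = orderOf (x : S) by rw [Subgroup.orderOf_coe, hx], pow_orderOf_eq_one])
      rcases hTn s hs _ hxE (mul_inv_eq_iff_eq_mul.1 h2) with h1 | h1
      · rw [← Subgroup.orderOf_coe, h1, orderOf_one] at hx; omega
      · exact hxc h1
  obtain ⟨hr2, hr1⟩ := rank_hyps hS hr hE hE4 T hET
  letI : Fintype (GaloisField 2 4) := Fintype.ofFinite _
  have h16 : Fintype.card (GaloisField 2 4) = 16 := by
    rw [← Nat.card_eq_fintype_card, GaloisField.card 2 4 (by norm_num)]; norm_num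
  obtain ⟨P⟩ : Nonempty (Sylow 2 (Cfsg.PSU 3 (GaloisField 2 4) 4)) := inferInstance
  rcases CfsgLib.AlphaRho.RankTwo.classify (hS.to_subgroup T) hr2 hr1 φ hφ h16 P with ⟨n, hn, ⟨f⟩⟩ | hU
  · rcases swap_homocyclic hi hn f hs (hET he) he2 hne with h | h
    · exact Or.inl h
    · exact Or.inr (Or.inr (Or.inl h))
  · exfalso
    have hss : s * s ∈ T := (mul_mem_iff_of_index_two hi).2 Iff.rfl
    have hecT : (⟨e, hET he⟩ : T) ∈ center T := by
      have hzT : (⟨z, hα ▸ (α _).2⟩ : T) ∈ center T :=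
        mem_center_iff.2 fun g => Subtype.ext (mem_center_iff.1 hz g)
      rw [show (⟨e, hET he⟩ : T) = α.symm ⟨z, hα ▸ (α _).2⟩ by
        rw [MulEquiv.eq_symm_apply]; exact Subtype.ext hα]
      refine mem_center_iff.2 fun g => α.injective ?_
      rw [map_mul, map_mul, α.apply_symm_apply]
      exact mem_center_iff.1 hzT (α g)
    refine hne ?_
    have h := u64_fix ⟨_, _, _, h16, P, hU⟩ (conjN T s) ⟨s * s, hss⟩ (fun x => Subtype.ext (by
      rw [conjN_apply, conjN_apply]
      show _ = s * s * (x : S) * (s * s)⁻¹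
      group)) hecT
    have h2 := congrArg Subtype.val h
    rwa [conjN_apply] at h2

/-- The case where an element outside the central one maps onto it from inside the four-group. -/
theorem index_two_inner (hS : IsPGroup 2 S) {A : Type*} [Group A] (hr : ¬ Cfsg.PRankAtLeast 2 3 S)
    (hE : Cfsg.IsElementaryAbelian 2 E) (hE4 : Nat.card E = 4) {T : Subgroup S} (hi : T.index = 2)
    (hET : E ≤ T) (hTE : ∀ t ∈ T, t * t = 1 → t ∈ E) (hTc : ∀ t ∈ T, ∀ v ∈ E, t * v = v * t)
    (hTn : ∀ g ∉ T, ∀ v ∈ E, g * v = v * g → v = 1 ∨ v ∈ center S)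
    {z e : S} (hz : z ∈ center S) (hzE : z ∈ E) (he : e ∈ E) (he1 : e ≠ 1) (hez : e ∉ center S)
    (ψ : centralizer ({e} : Set S) →* S) (hψ : Function.Injective ψ)
    (hψe : ∀ w : centralizer ({e} : Set S), (w : S) = e → ψ w = z) : Shape S A := by
  classical
  haveI : Fact (Nat.Prime 2) := ⟨Nat.prime_two⟩
  obtain ⟨s, hs⟩ : ∃ s, s ∉ T := by
    by_contra! h
    rw [(eq_top_iff' _).2 h, index_top] at hi
    omega
  have hTC : T ≤ centralizer ({e} : Set S) := fun t ht => mem_centralizer_singleton_iff.2 (hTc t ht e he)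
  let f : T →* S := ψ.comp (inclusion hTC)
  have hf : Function.Injective f := hψ.comp (inclusion_injective _)
  have hfe : f ⟨e, hET he⟩ = z := hψe _ rfl
  by_cases hfT : ∀ v : T, f v ∈ T
  · let α : MulAut T := MulEquiv.ofBijective (f.codRestrict T hfT)
      (Finite.injective_iff_bijective.1 fun a b hab => hf (congrArg Subtype.val hab))
    exact index_two_transitive hS hr hE hE4 hi hET hTE hTn hs hz he he1 hez α hfe
  push Not at hfT
  obtain ⟨v₀, hv₀⟩ := hfT
  set T' := f.range with hT'
  have hi' : T'.index = 2 := by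
    have h1 := T'.card_mul_index
    have h2 := T.card_mul_index
    rw [show Nat.card T' = Nat.card T from (Nat.card_congr (MonoidHom.ofInjective hf).toEquiv).symm, ← h2] at h1
    exact (Nat.eq_of_mul_eq_mul_left Nat.card_pos h1).trans hi
  set E' := (E.subgroupOf T).map f with hE'
  have hE'T : E' ≤ T' := map_le_range _ _
  -- the only involution in both is `z`
  have hinv : ∀ r, r ∈ T → r ∈ T' → r * r = 1 → r = 1 ∨ r = z := by
    intro r hrT hrT' hr2
    by_contra hcon
    push Not at hcon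
    obtain ⟨hr1, hrz⟩ := hcon
    have hrE : r ∈ E := hTE r hrT hr2
    obtain ⟨r', hr'⟩ := hrT'
    have hr'E : (r' : S) ∈ E := hTE _ r'.2 (by
      have : f (r' * r') = f 1 := by rw [map_mul, hr', hr2, map_one]
      exact congrArg Subtype.val (hf this))
    -- then the four-group is fixed, so the subgroup is too
    have hle : E ≤ E' := by
      have hrE' : r ∈ E' := ⟨r', hr'E, hr'⟩
      have hzE' : z ∈ E' := ⟨⟨e, hET he⟩, he, hfe⟩
      have hz1 : z ≠ 1 := fun h => he1 (congrArg Subtype.val (hf (show f ⟨e, hET he⟩ = f 1 by rw [hfe, h, map_one])))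
      have hz2 : z * z = 1 := by rw [← pow_two]; exact hE.2 z hzE
      let g : Fin 4 → (E ⊓ E' : Subgroup S) := ![⟨1, one_mem _⟩, ⟨z, hzE, hzE'⟩, ⟨r, hrE, hrE'⟩,
        ⟨r * z, mul_mem hrE hzE, mul_mem hrE' hzE'⟩]
      have hg : Function.Injective g := by
        intro a b hab
        have hv := congrArg Subtype.val hab
        have h3 : r * z ≠ 1 := fun h1 => hrz (by
          rw [mul_eq_one_iff_eq_inv] at h1
          rw [h1, inv_eq_of_mul_eq_one_left hz2])
        fin_cases a <;> fin_cases b <;>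
          first
            | rfl
            | (exfalso; simp [g, hr1, hz1, hrz, h3, Ne.symm hr1, Ne.symm hz1, Ne.symm hrz, Ne.symm h3] at hv)
      have h4 := Nat.card_le_card_of_injective g hg
      rw [Nat.card_fin] at h4
      have : E ⊓ E' = E := eq_of_le_of_card_ge inf_le_left (by omega)
      exact fun x hx => (this.ge hx).2
    refine hv₀ ?_
    by_contra hout
    have hall : ∀ v ∈ E, f v₀ * v = v * f v₀ := by
      intro v hv
      obtain ⟨v', hv', rfl⟩ := hle hv
      rw [← map_mul, ← map_mul]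
      exact congrArg f (Subtype.ext (hTc _ v₀.2 _ hv'))
    rcases hTn _ hout e he (hall e he) with h | h
    · exact he1 h
    · exact hez h
  have hez' : e ≠ z := fun h => hez (h ▸ hz)
  have heT' : e ∉ T' := fun h => by
    rcases hinv e (hET he) h (by rw [← pow_two]; exact hE.2 e he) with h1 | h1
    · exact he1 h1
    · exact hez' h1
  have hdec : ∀ t ∈ T, t ∈ T' ∨ t * e ∈ T' := fun t ht => by
    by_cases h : t ∈ T'
    · exact Or.inl h
    · exact Or.inr ((mul_mem_iff_of_index_two hi').2 (iff_of_false h heT'))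
  -- every square in `T` lies in the intersection
  have hsq : ∀ t ∈ T, t * t ∈ T' := fun t ht => by
    rcases hdec t ht with h | h
    · exact mul_mem h h
    · have := mul_mem h h
      rwa [show t * e * (t * e) = t * t * (e * e) by
        rw [mul_assoc t e, ← mul_assoc e t e, ← hTc t ht e he]; group,
        show e * e = 1 by rw [← pow_two]; exact hE.2 e he, mul_one] at this
  -- the intersection has order two
  have hR : ∀ r, r ∈ T → r ∈ T' → r = 1 ∨ r = z := by
    intro r hrT hrT'
    by_contra hcon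
    push Not at hcon
    obtain ⟨hr1, hrz⟩ := hcon
    obtain ⟨k, hk⟩ := IsPGroup.iff_orderOf.1 hS r
    obtain ⟨j, rfl⟩ : ∃ j, k = j + 2 := by
      rcases k with _ | _ | k
      · exact absurd (orderOf_eq_one_iff.1 (by simpa using hk)) hr1
      · have : r * r = 1 := by rw [← pow_two, show (2 : ℕ) = orderOf r by rw [hk]; norm_num, pow_orderOf_eq_one]
        rcases hinv r hrT hrT' this with h | h
        · exact absurd h hr1
        · exact absurd h hrz
      · exact ⟨k, rfl⟩
    obtain ⟨t, ht⟩ := pow_mem hrT' (2 ^ j)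
    set q := r ^ 2 ^ j with hq
    have hqq : q * q ∈ T ∧ q * q ∈ T' ∧ q * q * (q * q) = 1 ∧ q * q ≠ 1 := by
      refine ⟨mul_mem (pow_mem hrT _) (pow_mem hrT _), mul_mem (pow_mem hrT' _) (pow_mem hrT' _), ?_, ?_⟩
      · rw [hq, ← pow_add, ← pow_add, show 2 ^ j + 2 ^ j + (2 ^ j + 2 ^ j) = 2 ^ (j + 2) by ring, ← hk,
          pow_orderOf_eq_one]
      · rw [hq, ← pow_add]
        refine pow_ne_one_of_lt_orderOf (by positivity) ?_
        rw [hk, show 2 ^ (j + 2) = 2 ^ j + 2 ^ j + (2 ^ j + 2 ^ j) by ring]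
        have := Nat.two_pow_pos j
        omega
    have hqz : q * q = z := (hinv _ hqq.1 hqq.2.1 hqq.2.2.1).resolve_left hqq.2.2.2
    have hte : t * t = (⟨e, hET he⟩ : T) := hf (by rw [map_mul, ht, hqz, hfe])
    refine heT' ?_
    have := hsq t t.2
    rwa [show (t : S) * t = e from congrArg Subtype.val hte] at this
  -- so the group has order eight
  have hTeq : T = E := by
    refine le_antisymm (fun t ht => ?_) hET
    rcases hdec t ht with h | h
    · rcases hR t ht h with rfl | rfl
      · exact one_mem _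
      · exact hzE
    · have ht' : t = t * e * e := by rw [mul_assoc, ← pow_two, hE.2 e he, mul_one]
      rw [ht']
      rcases hR _ (mul_mem ht (hET he)) h with h1 | h1 <;> rw [h1]
      · exact mul_mem (one_mem _) he
      · exact mul_mem hzE he
  have h8 : Nat.card S = 8 := by rw [← T.card_mul_index, hi, hTeq, hE4]
  refine Or.inl ⟨4, le_rfl, CfsgLib.AutPOm.nonempty_equiv_dihedral h8 (a := e) (b := s)
    (by rw [← pow_two]; exact hE.2 e he) fun h => ?_⟩
  rcases hTn s hs e he h.symm with h1 | h1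
  · exact he1 h1
  · exact hez h1

/-- The structure theorem. -/
theorem shape (hS : IsPGroup 2 S) (h2 : Cfsg.PRankAtLeast 2 2 S) (hr : ¬ Cfsg.PRankAtLeast 2 3 S)
    (M : Moved S) {F : Type*} [Field F] [Fintype F] (hF : Fintype.card F = 16)
    (P : Sylow 2 (Cfsg.PSU 3 F 4)) : Shape S (P : Subgroup (Cfsg.PSU 3 F 4)) := by
  classical
  haveI : Fact (Nat.Prime 2) := ⟨Nat.prime_two⟩
  by_cases hnf : ∃ U : Subgroup S, U.Normal ∧ Cfsg.IsElementaryAbelian 2 U ∧ Nat.card U = 4
  swap
  · obtain ⟨B, hBc, hB2, hB⟩ := h2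
    have hcyc : ∀ A : Subgroup S, A.Normal → IsMulCommutative A → IsCyclic A := by
      intro A hAn hAc
      haveI := hAn
      haveI := hAc
      by_contra hAcyc
      refine hAcyc ?_
      obtain ⟨a, ha⟩ := CfsgLib.UniqueInvol.exists_generator_of_comm (G := A) (hS.to_subgroup A)
        (A := ⊤) (fun x _ y _ => mul_comm' x y) fun x y hx hy => by
          by_contra hxy
          refine hnf ?_
          obtain ⟨U, hU⟩ := CfsgLib.NormalFour.exists_of_abelian hS (A := A)
            (fun a ha b hb => congrArg Subtype.val (mul_comm' (⟨a, ha⟩ : A) ⟨b, hb⟩))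
            x.2 y.2 (by rwa [Subgroup.orderOf_coe]) (by rwa [Subgroup.orderOf_coe]) (fun h => hxy (by
              obtain ⟨i, hi⟩ := mem_zpowers_iff.1 h
              exact mem_zpowers_iff.2 ⟨i, Subtype.ext (by simpa using hi)⟩))
          exact ⟨U, hU.1, hU.2.1, hU.2.2⟩
      exact isCyclic_iff_exists_zpowers_eq_top.2 ⟨a, ha.symm⟩
    have hBnc : ¬ IsCyclic B := fun h => by
      obtain ⟨b, hb⟩ := h.exists_ofOrder_eq_natCard
      have : orderOf b ≤ 2 := orderOf_le_of_pow_eq_one two_pos (Subtype.ext (hB2 b b.2))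
      omega
    obtain ⟨-, ⟨n, ⟨f⟩⟩ | ⟨n, hn, h⟩ | h⟩ := Cfsg.Agent.S0519.result 2 hS hcyc ⟨B, hBc, hBnc⟩
    · exfalso
      obtain ⟨i, hi⟩ := IsPGroup.iff_card.1 hS
      have hn0 : n ≠ 0 := by
        rintro rfl
        haveI : Finite (QuaternionGroup 0) := Finite.of_equiv _ f.toEquiv
        haveI : Finite ℤ := Finite.of_injective (QuaternionGroup.a (n := 0) : ZMod (2 * 0) → _) fun a b h => by
          injection h
        exact not_finite ℤ
      haveI : NeZero n := ⟨hn0⟩
      have h1 : n ∣ 2 ^ i := ⟨4, by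
        rw [← hi, Nat.card_congr f.toEquiv, Nat.card_eq_fintype_card, QuaternionGroup.card, mul_comm]⟩
      obtain ⟨j, -, rfl⟩ := (Nat.dvd_prime_pow Nat.prime_two).1 h1
      refine hBnc ?_
      obtain ⟨x, hx⟩ : ∃ x ∈ B, x ≠ 1 := by
        by_contra! h
        rw [(Subgroup.eq_bot_iff_forall B).2 h, Subgroup.card_bot] at hB
        omega
      haveI : IsCyclic (zpowers x) := inferInstance
      have hle : B ≤ zpowers x := fun b hb => by
        by_cases hb1 : b = 1
        · rw [hb1]; exact one_mem _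
        · rw [show b = x from f.injective (CfsgLib.QSection.quaternion_involution _ _
            (by rw [f.orderOf_eq]; exact orderOf_eq_prime (hB2 b hb) hb1)
            (by rw [f.orderOf_eq]; exact orderOf_eq_prime (hB2 x hx.1) hx.2))]
          exact mem_zpowers x
      exact isCyclic_of_injective (inclusion hle) (inclusion_injective _)
    · exact Or.inl ⟨n, by omega, h⟩
    · exact Or.inr (Or.inl h)
  obtain ⟨E, hEn, hE, hE4⟩ := hnf
  haveI := hEn
  haveI := hS.isNilpotent
  set T := centralizer (E : Set S)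
  have hET : E ≤ T := fun x hx => mem_centralizer_iff.2 fun y hy =>
    congrArg Subtype.val (hE.1.is_comm.comm (⟨y, hy⟩ : E) ⟨x, hx⟩)
  have hTc : ∀ t ∈ T, ∀ v ∈ E, t * v = v * t := fun t ht v hv => (mem_centralizer_iff.1 ht v hv).symm
  have hTE : ∀ t ∈ T, t * t = 1 → t ∈ E := fun t ht h =>
    mem_of_commute_four hS hr hE hE4 h fun v hv => (hTc t ht v hv).symm
  have hidx : T.index ≤ 2 := by
    simpa using CfsgLib.PGroupRank.index_centralizer_le hS E (a := 2) (by rw [hE4]; norm_num)
  rcases eq_or_ne T ⊤ with hTtop | hTtop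
  · -- all involutions are central
    have hEc : E ≤ center S := fun v hv => mem_center_iff.2 fun g => hTc g (hTtop ▸ mem_top g) v hv
    have hall : ∀ x : S, x * x = 1 → x ∈ E := fun x hx => hTE x (hTtop ▸ mem_top x) hx
    have h3 : Nat.card {x : S // orderOf x = 2} = 3 := by
      rw [← card_invol T hET hE hE4 hTE]
      refine Nat.card_congr
        { toFun := fun x => ⟨⟨x, hTtop ▸ mem_top _⟩, by rw [Subgroup.orderOf_mk]; exact x.2⟩
          invFun := fun x => ⟨(x : T), by rw [Subgroup.orderOf_coe]; exact x.2⟩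
          left_inv := fun x => rfl
          right_inv := fun x => rfl }
    obtain ⟨φ, hφ⟩ := exists_trans h3 fun x hx => by
      have hx2 : x * x = 1 := by rw [← pow_two, ← hx, pow_orderOf_eq_one]
      have hx1 : x ≠ 1 := fun h => by rw [h, orderOf_one] at hx; omega
      obtain ⟨y, hyx, hR⟩ := M.moved x (hEc (hall x hx2)) hx2 hx1
      obtain ⟨ψ, hψ, -, hψy⟩ := M.ext (hEc (hall x hx2)) hR
      have hy2 : y * y = 1 := by
        have hy : y ∈ centralizer ({y} : Set S) := mem_centralizer_singleton_iff.2 rfl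
        have h1 : ψ (⟨y, hy⟩ * ⟨y, hy⟩) = ψ 1 := by rw [map_mul, hψy ⟨y, hy⟩ rfl, hx2, map_one]
        exact congrArg Subtype.val (hψ h1)
      have htop : centralizer ({y} : Set S) = ⊤ := (eq_top_iff' _).2 fun g =>
        mem_centralizer_singleton_iff.2 (mem_center_iff.1 (hEc (hall y hy2)) g)
      let g : S →* S := ψ.comp ((MonoidHom.id S).codRestrict _ fun a => htop ▸ mem_top a)
      let φ : MulAut S := MulEquiv.ofBijective g
        (Finite.injective_iff_bijective.1 fun a b hab => congrArg Subtype.val (hψ hab))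
      refine ⟨φ.symm, fun h => hyx ?_⟩
      have h1 : φ y = x := hψy _ rfl
      rw [← h1, φ.symm_apply_apply] at h
      exact h.trans h1
    have hr2 : Cfsg.PRankLE 2 2 S := fun A hAc hA2 => by
      obtain ⟨k, hk⟩ := IsPGroup.iff_card.1 (hS.to_subgroup A)
      rw [hk]
      refine Nat.pow_le_pow_right two_pos ?_
      by_contra hk2
      exact hr ⟨A, hAc, hA2, hk ▸ Nat.pow_le_pow_right two_pos (by omega)⟩
    have hr1 : ¬ Cfsg.PRankLE 2 1 S := fun h => by
      have := h E hE.1 hE.2
      rw [hE4] at this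
      omega
    rcases CfsgLib.AlphaRho.RankTwo.classify hS hr2 hr1 φ hφ hF P with h | h
    · exact Or.inr (Or.inr (Or.inr (Or.inl h)))
    · exact Or.inr (Or.inr (Or.inr (Or.inr h)))
  have hi : T.index = 2 := by
    have h0 := Subgroup.index_ne_zero_of_finite (H := T)
    have h1 : T.index ≠ 1 := fun h => hTtop (index_eq_one.1 h)
    omega
  haveI : T.Normal := normal_of_index_eq_two hi
  obtain ⟨z, ⟨hzE, hzc⟩, hz1⟩ : ∃ z, (z ∈ E ∧ z ∈ center S) ∧ z ≠ 1 := by
    have hEbot : E ≠ ⊥ := fun h => by rw [h, Subgroup.card_bot] at hE4; omega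
    have := CfsgLib.PGroupBasic.inf_center_ne_bot E hEbot
    rw [ne_eq, Subgroup.eq_bot_iff_forall] at this
    push Not at this
    obtain ⟨z, hz, hz1⟩ := this
    exact ⟨z, Subgroup.mem_inf.1 hz, hz1⟩
  have hz2 : z * z = 1 := by rw [← pow_two]; exact hE.2 z hzE
  have hTn : ∀ g ∉ T, ∀ v ∈ E, g * v = v * g → v = 1 ∨ v ∈ center S := by
    intro g hg v hv hgv
    by_contra hcon
    push Not at hcon
    refine hcon.2 (mem_center_iff.2 fun x => ?_)
    by_cases hx : x ∈ T
    · exact hTc x hx v hv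
    · have hxg : x * g ∈ T := (mul_mem_iff_of_index_two hi).2 (iff_of_false hx hg)
      have h1 := hTc _ hxg v hv
      rw [mul_assoc, hgv, ← mul_assoc, ← mul_assoc] at h1
      exact mul_right_cancel h1
  obtain ⟨y, hyz, hR⟩ := M.moved z hzc hz2 hz1
  obtain ⟨ψ, hψ, hψR, hψy⟩ := M.ext hzc hR
  have hyC : y ∈ centralizer ({y} : Set S) := mem_centralizer_singleton_iff.2 rfl
  have hy2 : y * y = 1 := by
    have h1 : ψ (⟨y, hyC⟩ * ⟨y, hyC⟩) = ψ 1 := by rw [map_mul, hψy ⟨y, hyC⟩ rfl, hz2, map_one]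
    exact congrArg Subtype.val (hψ h1)
  have hy1 : y ≠ 1 := fun h => hz1 (by rw [← hψy (1 : centralizer ({y} : Set S)) h.symm, map_one])
  have hcen : ∀ v ∈ E, v ∈ center S → v = 1 ∨ v = z := by
    intro v hv hvc
    by_contra hcon
    push Not at hcon
    obtain ⟨g, hg⟩ : ∃ g, g ∉ T := by
      by_contra! h
      exact hTtop ((eq_top_iff' _).2 h)
    let f : Fin 4 → (E ⊓ center S : Subgroup S) := ![⟨1, one_mem _⟩, ⟨z, hzE, hzc⟩, ⟨v, hv, hvc⟩,
      ⟨v * z, mul_mem hv hzE, mul_mem hvc hzc⟩]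
    have hf : Function.Injective f := by
      intro a b hab
      have hval := congrArg Subtype.val hab
      have h3 : v * z ≠ 1 := fun h1 => hcon.2 (by
        rw [mul_eq_one_iff_eq_inv] at h1
        rw [h1, inv_eq_of_mul_eq_one_left hz2])
      fin_cases a <;> fin_cases b <;>
        first
          | rfl
          | (exfalso; simp [f, hcon.1, hz1, hcon.2, h3, Ne.symm hcon.1, Ne.symm hz1, Ne.symm hcon.2, Ne.symm h3] at hval)
    have h4 := Nat.card_le_card_of_injective f hf
    rw [Nat.card_fin] at h4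
    have h5 : E ⊓ center S = E := eq_of_le_of_card_ge inf_le_left (by omega)
    exact hg (mem_centralizer_iff.2 fun w hw => (mem_center_iff.1 (h5.ge hw).2 g).symm)
  by_cases hyT : y ∈ T
  · have hyE : y ∈ E := hTE y hyT hy2
    exact index_two_inner hS hr hE hE4 hi hET hTE hTc hTn hzc hzE hyE hy1
      (fun h => (hcen y hyE h).elim hy1 hyz) ψ hψ hψy
  -- `y` outside the centralizer of the four-group
  by_cases hsmall : ∀ r ∈ T, r ∈ centralizer ({y} : Set S) → r = 1 ∨ r = z
  · have hC : Nat.card (centralizer ({y} : Set S)) ≤ 4 := by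
      let g : Fin 4 → S := ![1, z, y, z * y]
      let f : centralizer ({y} : Set S) → Finset.image g Finset.univ := fun w => ⟨w, by
        by_cases hw : (w : S) ∈ T
        · rcases hsmall _ hw w.2 with h | h <;> rw [h]
          · exact Finset.mem_image.2 ⟨0, Finset.mem_univ _, rfl⟩
          · exact Finset.mem_image.2 ⟨1, Finset.mem_univ _, rfl⟩
        · have h1 : (w : S) * y ∈ T := (mul_mem_iff_of_index_two hi).2 (iff_of_false hw hyT)
          have h2 : (w : S) = (w : S) * y * y := by rw [mul_assoc, hy2, mul_one]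
          rw [h2]
          rcases hsmall _ h1 (mul_mem w.2 hyC) with h | h <;> rw [h]
          · exact Finset.mem_image.2 ⟨2, Finset.mem_univ _, (one_mul y).symm⟩
          · exact Finset.mem_image.2 ⟨3, Finset.mem_univ _, rfl⟩⟩
      refine (Nat.card_le_card_of_injective f fun a b hab => ?_).trans ?_
      · have h9 : ((f a : Finset.image g Finset.univ) : S) = (f b : S) := by rw [hab]
        exact Subtype.ext h9
      · rw [Nat.card_eq_fintype_card, Fintype.card_coe]
        exact Finset.card_image_le.trans (by simp)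
    have hS4 : Nat.card S ≠ 4 := fun h => by
      have h8 := T.card_mul_index
      have := card_le_of_le hET
      rw [hi, h] at h8
      omega
    rcases max_class_of_small_centralizer hS (orderOf_eq_prime (by rw [pow_two]; exact hz2) hz1)
      (orderOf_eq_prime (by rw [pow_two]; exact hy2) hy1) hyz.symm hS4 y hC with h | h
    · exact Or.inl h
    · exact Or.inr (Or.inl h)
  push Not at hsmall
  obtain ⟨r, hrT, hrC, hr1, hrz⟩ := hsmall
  obtain ⟨k, hk⟩ := IsPGroup.iff_orderOf.1 hS r
  obtain ⟨j, rfl⟩ : ∃ j, k = j + 2 := by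
    rcases k with _ | _ | k
    · exact absurd (orderOf_eq_one_iff.1 (by simpa using hk)) hr1
    · exfalso
      have hr2' : r * r = 1 := by rw [← pow_two, show (2 : ℕ) = orderOf r by rw [hk]; norm_num, pow_orderOf_eq_one]
      rcases hTn y hyT r (hTE r hrT hr2') (mem_centralizer_singleton_iff.1 hrC).symm with h | h
      · exact hr1 h
      · exact (hcen r (hTE r hrT hr2') h).elim hr1 hrz
    · exact ⟨k, rfl⟩
  set q := r ^ 2 ^ j with hq
  have hqT : q ∈ T := pow_mem hrT _
  have hqC : q ∈ centralizer ({y} : Set S) := pow_mem hrC _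
  have hqq : q * q = z := by
    have h1 : q * q * (q * q) = 1 := by
      rw [hq, ← pow_add, ← pow_add, show 2 ^ j + 2 ^ j + (2 ^ j + 2 ^ j) = 2 ^ (j + 2) by ring, ← hk,
        pow_orderOf_eq_one]
    have h2 : q * q ≠ 1 := by
      rw [hq, ← pow_add]
      refine pow_ne_one_of_lt_orderOf (by positivity) ?_
      rw [hk, show 2 ^ (j + 2) = 2 ^ j + 2 ^ j + (2 ^ j + 2 ^ j) by ring]
      have := Nat.two_pow_pos j
      omega
    have hE' : q * q ∈ E := hTE _ (mul_mem hqT hqT) h1
    rcases hTn y hyT _ hE' (mem_centralizer_singleton_iff.1 (mul_mem hqC hqC)).symm with h | h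
    · exact absurd h h2
    · exact (hcen _ hE' h).resolve_left h2
  -- the image of `z` is a square, hence in the four-group
  have hzC : z ∈ centralizer ({y} : Set S) := mem_centralizer_singleton_iff.2 (mem_center_iff.1 hzc y).symm
  set e := ψ ⟨z, hzC⟩ with he
  have heT : e ∈ T := by
    rw [he, show (⟨z, hzC⟩ : centralizer ({y} : Set S)) = ⟨q, hqC⟩ * ⟨q, hqC⟩ from Subtype.ext hqq.symm, map_mul]
    exact (mul_mem_iff_of_index_two hi).2 Iff.rfl
  have he1 : e ≠ 1 := fun h => hz1 (congrArg Subtype.val (hψ (h.trans (map_one ψ).symm) :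
    (⟨z, hzC⟩ : centralizer ({y} : Set S)) = 1))
  have hez : e ≠ z := fun h => hyz (congrArg Subtype.val (hψ ((hψy ⟨y, hyC⟩ rfl).trans h.symm) :
    (⟨y, hyC⟩ : centralizer ({y} : Set S)) = ⟨z, hzC⟩))
  have heE : e ∈ E := hTE e heT (by
    rw [he, ← map_mul, show (⟨z, hzC⟩ * ⟨z, hzC⟩ : centralizer ({y} : Set S)) = 1 from Subtype.ext hz2, map_one])
  obtain ⟨χ, hχ, -, hχe⟩ := M.ext hzc (M.symm (hψR ⟨z, hzC⟩) : M.R e z)
  exact index_two_inner hS hr hE hE4 hi hET hTE hTc hTn hzc hzE heE he1
    (fun h => (hcen e heE h).elim he1 hez) χ hχ hχe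

end CfsgLib.TwoRankTwo
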