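import Cfsg.Agent.AlphaRho.RankTwo
import Cfsg.Agent.Invol.NormalFour
import Cfsg.Agent.Solvable.TwoMaximalClass
import Cfsg.Agent.Transfer.QuaternionSection
import Cfsg.Agent.AutPOm.Extensions
import Cfsg.Agent.S0519
import Cfsg.Prelude.Def_EvenType

/-!
Pieces for 2-groups of rank two: maximal class, and an involution swapping two factors.
-/

set_option autoImplicit false
set_option linter.style.haveILetI false
set_option linter.unusedSectionVars false

namespace CfsgLib.TwoRankTwo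

open Subgroup

/-- The shapes of 2-groups of rank two carrying fusion, `A` standing for the group of order 64. -/
def Shape (S : Type*) [Group S] (A : Type*) [Group A] : Prop :=
  (∃ m : ℕ, 4 ≤ m ∧ Nonempty (S ≃* DihedralGroup m)) ∨ Cfsg.IsQuasiDihedral S ∨ Cfsg.IsWreathed S ∨
    (∃ n : ℕ, 1 ≤ n ∧ Nonempty (S ≃* Multiplicative (ZMod (2 ^ n) × ZMod (2 ^ n)))) ∨ Nonempty (S ≃* A)

variable {S : Type*} [Group S] [Finite S] (hS : IsPGroup 2 S)

omit [Finite S] in
theorem eq_of_mem_zpowers_two {a b : S} (ha : orderOf a = 2) (hb : orderOf b = 2) (h : b ∈ zpowers a) : b = a := by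
  obtain ⟨k, rfl⟩ := mem_zpowers_iff.1 h
  have ha2 : a ^ (2 : ℤ) = 1 := by exact_mod_cast (ha ▸ pow_orderOf_eq_one a : a ^ 2 = 1)
  rcases Int.even_or_odd' k with ⟨j, rfl | rfl⟩
  · rw [zpow_mul, ha2, one_zpow, orderOf_one] at hb
    omega
  · rw [zpow_add, zpow_mul, ha2, one_zpow, one_mul, zpow_one]

theorem hS_pow {x y : S} {n : ℕ} (hx : orderOf x = 2 ^ n) (hy : y ∈ zpowers x) (hy1 : y ≠ 1) :
    ∃ k : ℕ, orderOf (y ^ k) = 2 := by
  obtain ⟨m, hm, hm'⟩ := (Nat.dvd_prime_pow Nat.prime_two).1 (hx ▸ orderOf_dvd_of_mem_zpowers hy)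
  have hm0 : m ≠ 0 := fun h => hy1 (orderOf_eq_one_iff.1 (by rw [hm', h, pow_zero]))
  exact ⟨2 ^ (m - 1), by
    rw [orderOf_pow' _ (pow_ne_zero _ two_ne_zero), hm',
      Nat.gcd_eq_right (pow_dvd_pow 2 (Nat.sub_le m 1)), Nat.pow_div (Nat.sub_le m 1) two_pos,
      show m - (m - 1) = 1 by omega, pow_one]⟩

/-- Maximal class types without the quaternion groups. -/
theorem dihedral_or_semi_of_dsq {x y : S} (hx : orderOf x = 2) (hy : orderOf y = 2) (hxy : x ≠ y)
    (h : CfsgLib.TwoMax.DSQ S) :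
    (∃ m : ℕ, 4 ≤ m ∧ Nonempty (S ≃* DihedralGroup m)) ∨ Cfsg.IsQuasiDihedral S := by
  rcases h with ⟨k, h⟩ | ⟨k, hk⟩ | ⟨k, ⟨e⟩⟩
  · refine Or.inl ⟨_, ?_, h⟩
    exact (Nat.pow_le_pow_right two_pos (Nat.le_add_left 2 k) : 2 ^ 2 ≤ 2 ^ (k + 2))
  · exact Or.inr ⟨k + 3, by omega, hk⟩
  · exact absurd (e.injective (CfsgLib.QSection.quaternion_involution (n := k + 1) (e x) (e y)
      (by rwa [e.orderOf_eq]) (by rwa [e.orderOf_eq]))) hxy

include hS in
/-- An element with centralizer of order at most four in a group with two involutions. -/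
theorem max_class_of_small_centralizer {x y : S} (hx : orderOf x = 2) (hy : orderOf y = 2) (hxy : x ≠ y)
    (hS4 : Nat.card S ≠ 4) (u : S) (hu : Nat.card (centralizer ({u} : Set S)) ≤ 4) :
    (∃ m : ℕ, 4 ≤ m ∧ Nonempty (S ≃* DihedralGroup m)) ∨ Cfsg.IsQuasiDihedral S := by
  classical
  haveI : Fact (Nat.Prime 2) := ⟨Nat.prime_two⟩
  have hle : (commutator S).index ≤ 4 := by
    have h1 : Nat.card (S ⧸ centralizer ({u} : Set S)) ≤ Nat.card (commutator S) := by
      let f : S ⧸ centralizer ({u} : Set S) → commutator S := fun q =>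
        ⟨Quotient.out q * u * (Quotient.out q)⁻¹ * u⁻¹, by
          rw [_root_.commutator_def, ← commutatorElement_def]
          exact commutator_mem_commutator (mem_top _) (mem_top _)⟩
      refine Nat.card_le_card_of_injective f fun a b hab => ?_
      have h2 := mul_right_cancel (congrArg Subtype.val hab)
      rw [← QuotientGroup.out_eq' a, ← QuotientGroup.out_eq' b, QuotientGroup.eq, mem_centralizer_singleton_iff]
      calc (Quotient.out a)⁻¹ * Quotient.out b * u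
          = (Quotient.out a)⁻¹ * (Quotient.out b * u * (Quotient.out b)⁻¹) * Quotient.out b := by group
        _ = (Quotient.out a)⁻¹ * (Quotient.out a * u * (Quotient.out a)⁻¹) * Quotient.out b := by rw [h2]
        _ = u * ((Quotient.out a)⁻¹ * Quotient.out b) := by group
    have e1 := (commutator S).card_mul_index
    have e2 := card_eq_card_quotient_mul_card_subgroup (centralizer ({u} : Set S))
    have h3 : Nat.card (commutator S) * (commutator S).index ≤ Nat.card (commutator S) * 4 := by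
      rw [e1, e2]; exact Nat.mul_le_mul h1 hu
    exact Nat.le_of_mul_le_mul_left h3 Nat.card_pos
  have hge : ¬ (commutator S).index ≤ 2 := by
    intro h2
    obtain ⟨hc, -⟩ := CfsgLib.PGroupBasic.commutator_pow_le_frattini (p := 2) hS
    obtain ⟨n, hn⟩ := hS.index (frattini S)
    have hn1 : n ≤ 1 := by
      have h3 : (frattini S).index ≤ 2 :=
        (Nat.le_of_dvd (Nat.pos_of_ne_zero (index_ne_zero_of_finite)) (index_dvd_of_le hc)).trans h2
      rw [hn] at h3
      exact (Nat.pow_le_pow_iff_right one_lt_two).1 (h3.trans (pow_one 2).ge)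
    haveI := Fintype.ofFinite S
    obtain ⟨T, -, hT, htop⟩ :=
      (CfsgLib.PGroupBasic.burnside_basis (p := 2) hS hn).1 Finset.univ (by simp)
    haveI : Nonempty S := ⟨1⟩
    obtain ⟨g, hg⟩ : ∃ g : S, zpowers g = ⊤ := by
      rcases Nat.le_one_iff_eq_zero_or_eq_one.1 hn1 with h0 | h0
      · rw [h0, Finset.card_eq_zero] at hT
        exact ⟨1, by rw [hT] at htop; simpa using htop⟩
      · rw [h0, Finset.card_eq_one] at hT
        obtain ⟨g, hg⟩ := hT
        exact ⟨g, by rw [hg, Finset.coe_singleton, ← zpowers_eq_closure] at htop; exact htop⟩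
    exact hxy (eq_of_mem_zpowers_two hx hy (Cfsg.Agent.S0519.mem_zpowers_prime (p := 2)
      (hg ▸ mem_top x : x ∈ zpowers g) (hg ▸ mem_top y) hx (hy ▸ pow_orderOf_eq_one y))).symm
  obtain ⟨i, hi⟩ := hS.index (commutator S)
  have h4 : (commutator S).index = 4 := by
    rw [hi] at hle hge ⊢
    rcases i with _ | _ | _ | i
    · norm_num at hge
    · norm_num at hge
    · norm_num
    · exfalso
      have : 2 ^ 3 ≤ 2 ^ (i + 3) := Nat.pow_le_pow_right two_pos (by omega)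
      omega
  exact dihedral_or_semi_of_dsq hx hy hxy ((CfsgLib.TwoMax.dsq_of_index_commutator hS h4).resolve_left hS4)

theorem two_torsion {n : ℕ} (hn : 1 ≤ n) (a : ZMod (2 ^ n)) (ha : a + a = 0) :
    ∃ b : ZMod (2 ^ n), a = 2 ^ (n - 1) • b := by
  haveI : NeZero (2 ^ n) := ⟨pow_ne_zero _ two_ne_zero⟩
  have h : 2 ^ n ∣ a.val + a.val := by
    rw [← ZMod.natCast_eq_zero_iff, Nat.cast_add, ZMod.natCast_zmod_val, ha]
  have h2 : 2 ^ (n - 1) ∣ a.val := by
    refine Nat.dvd_of_mul_dvd_mul_left two_pos ?_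
    rw [← pow_succ', Nat.sub_add_cancel hn, two_mul]
    exact h
  obtain ⟨c, hc⟩ := h2
  exact ⟨(c : ZMod (2 ^ n)), by rw [nsmul_eq_mul, ← Nat.cast_mul, ← hc, ZMod.natCast_zmod_val]⟩

/-- A homocyclic subgroup of index two with two involutions exchanged outside. -/
theorem swap_homocyclic {T : Subgroup S} (hT : T.index = 2) {n : ℕ} (hn : 1 ≤ n)
    (f : T ≃* Multiplicative (ZMod (2 ^ n) × ZMod (2 ^ n))) {s e : S} (hs : s ∉ T) (he : e ∈ T)
    (he2 : orderOf e = 2) (hne : s * e * s⁻¹ ≠ e) :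
    (∃ m : ℕ, 4 ≤ m ∧ Nonempty (S ≃* DihedralGroup m)) ∨ Cfsg.IsWreathed S := by
  classical
  haveI : Fact (Nat.Prime 2) := ⟨Nat.prime_two⟩
  haveI : NeZero (2 ^ n) := ⟨pow_ne_zero _ two_ne_zero⟩
  haveI : T.Normal := normal_of_index_eq_two hT
  have hTcard : Nat.card T = 2 ^ (2 * n) := by
    rw [Nat.card_congr f.toEquiv, Nat.card_congr Multiplicative.toAdd, Nat.card_prod, Nat.card_zmod, ← pow_add,
      two_mul]
  have hScard : Nat.card S = 2 ^ (2 * n + 1) := by
    rw [← T.card_mul_index, hT, hTcard, pow_succ]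
  rcases Nat.lt_or_ge n 2 with hn2 | hn2
  · left
    refine ⟨4, le_rfl, CfsgLib.AutPOm.nonempty_equiv_dihedral ?_ (a := e) (b := s) ?_ fun h => hne ?_⟩
    · rw [hScard, show n = 1 by omega]; norm_num
    · rw [← pow_two, ← he2, pow_orderOf_eq_one]
    · rw [← h, mul_inv_cancel_right]
  right
  have habT : ∀ a ∈ T, ∀ b ∈ T, a * b = b * a := fun a ha b hb => by
    have : (⟨a, ha⟩ * ⟨b, hb⟩ : T) = ⟨b, hb⟩ * ⟨a, ha⟩ := f.injective (by rw [map_mul, map_mul, mul_comm])
    exact congrArg Subtype.val this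
  obtain ⟨x, hx, hxe⟩ : ∃ x ∈ T, x ^ 2 ^ (n - 1) = e := by
    have h := congrArg f (Subtype.ext (by
      show e * e = 1
      rw [← pow_two, ← he2, pow_orderOf_eq_one]) : (⟨e, he⟩ * ⟨e, he⟩ : T) = 1)
    rw [map_mul, map_one] at h
    have h1 : (f ⟨e, he⟩).toAdd + (f ⟨e, he⟩).toAdd = 0 := congrArg Multiplicative.toAdd h
    obtain ⟨b, hb⟩ := two_torsion hn _ (congrArg Prod.fst h1)
    obtain ⟨c, hc⟩ := two_torsion hn _ (congrArg Prod.snd h1)
    refine ⟨_, (f.symm (Multiplicative.ofAdd (b, c))).2, ?_⟩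
    have h2 : f.symm (Multiplicative.ofAdd (b, c)) ^ 2 ^ (n - 1) = ⟨e, he⟩ := by
      apply f.injective
      rw [map_pow, f.apply_symm_apply, ← ofAdd_nsmul, Prod.smul_mk, ← hb, ← hc]
      rfl
    exact congrArg Subtype.val h2
  have hordx : orderOf x = 2 ^ n := by
    obtain ⟨m, rfl⟩ : ∃ m, n = m + 1 := ⟨n - 1, by omega⟩
    rw [Nat.add_sub_cancel] at hxe
    refine orderOf_eq_prime_pow (fun h => ?_) ?_
    · rw [hxe] at h; rw [h, orderOf_one] at he2; omega
    · rw [pow_succ, pow_mul, hxe, ← he2, pow_orderOf_eq_one]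
  set y := s * x * s⁻¹ with hy
  have hyT : y ∈ T := Normal.conj_mem inferInstance x hx s
  have hordy : orderOf y = 2 ^ n :=
    ((orderOf_injective (MulAut.conj s).toMonoidHom (MulAut.conj s).injective x).trans hordx)
  have hye : y ^ 2 ^ (n - 1) = s * e * s⁻¹ := by rw [hy, conj_pow, hxe]
  have hdisj : zpowers x ⊓ zpowers y = ⊥ := by
    rw [eq_bot_iff]
    intro g hg
    by_contra hg1
    rw [mem_bot] at hg1
    obtain ⟨k, hk⟩ := hS_pow (y := g) hordx hg.1 hg1
    have hmx : g ^ k ∈ zpowers x := pow_mem hg.1 k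
    have hmy : g ^ k ∈ zpowers y := pow_mem hg.2 k
    have h2 : (g ^ k) ^ 2 = 1 := hk ▸ pow_orderOf_eq_one _
    have hex : e ∈ zpowers x := hxe ▸ pow_mem (mem_zpowers x) _
    have hey : s * e * s⁻¹ ∈ zpowers y := hye ▸ pow_mem (mem_zpowers y) _
    have hse : orderOf (s * e * s⁻¹) = 2 :=
      (orderOf_injective (MulAut.conj s).toMonoidHom (MulAut.conj s).injective e).trans he2
    have e1 : g ^ k = e := eq_of_mem_zpowers_two he2 hk
      (Cfsg.Agent.S0519.mem_zpowers_prime (p := 2) hex hmx he2 h2)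
    have e2 : g ^ k = s * e * s⁻¹ := eq_of_mem_zpowers_two hse hk
      (Cfsg.Agent.S0519.mem_zpowers_prime (p := 2) hey hmy hse h2)
    exact hne (e2.symm.trans e1)
  have hxy : x * y = y * x := habT x hx y hyT
  have hgen : ∀ t ∈ T, ∃ i j : ℤ, x ^ i * y ^ j = t := by
    let g : zpowers x × zpowers y → T := fun p =>
      ⟨(p.1 : S) * p.2, mul_mem (zpowers_le.2 hx p.1.2) (zpowers_le.2 hyT p.2.2)⟩
    have hg : Function.Injective g := by
      intro p q hpq
      have h : (p.1 : S) * p.2 = q.1 * q.2 := congrArg Subtype.val hpq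
      have h1 : (q.1 : S)⁻¹ * p.1 = q.2 * (p.2 : S)⁻¹ := by
        rw [eq_mul_inv_iff_mul_eq, mul_assoc, h, inv_mul_cancel_left]
      have h2 : (q.1 : S)⁻¹ * p.1 ∈ zpowers x ⊓ zpowers y :=
        Subgroup.mem_inf.2 ⟨(zpowers x).mul_mem ((zpowers x).inv_mem q.1.2) p.1.2,
          h1 ▸ (zpowers y).mul_mem q.2.2 ((zpowers y).inv_mem p.2.2)⟩
      rw [hdisj, mem_bot] at h2
      have h3 : (q.1 : S) = p.1 := inv_mul_eq_one.1 h2
      rw [h2] at h1
      exact Prod.ext (Subtype.ext h3.symm) (Subtype.ext (mul_inv_eq_one.1 h1.symm).symm)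
    have hcard : Nat.card (zpowers x × zpowers y) = Nat.card T := by
      rw [Nat.card_prod, Nat.card_zpowers, Nat.card_zpowers, hordx, hordy, hTcard, ← pow_add, two_mul]
    intro t ht
    obtain ⟨p, hp⟩ := ((Nat.bijective_iff_injective_and_card g).2 ⟨hg, hcard⟩).2 ⟨t, ht⟩
    obtain ⟨i, hi⟩ := mem_zpowers_iff.1 p.1.2
    obtain ⟨j, hj⟩ := mem_zpowers_iff.1 p.2.2
    exact ⟨i, j, by rw [hi, hj]; exact congrArg Subtype.val hp⟩
  have hs2T : s * s ∈ T := (mul_mem_iff_of_index_two hT).2 Iff.rfl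
  have hyx : s * y * s⁻¹ = x := by
    rw [hy, show s * (s * x * s⁻¹) * s⁻¹ = (s * s) * x * (s * s)⁻¹ by group, habT _ hs2T x hx, mul_inv_cancel_right]
  obtain ⟨i, j, hij⟩ := hgen _ hs2T
  have hc : Commute x y := hxy
  have hij' : x ^ (i - j) = y ^ (i - j) := by
    have h1 : s * (x ^ i * y ^ j) * s⁻¹ = x ^ i * y ^ j := by rw [hij]; group
    rw [show s * (x ^ i * y ^ j) * s⁻¹ = (s * x ^ i * s⁻¹) * (s * y ^ j * s⁻¹) by group, ← conj_zpow, ← conj_zpow,
      hyx, ← hy, (hc.zpow_zpow j i).symm.eq] at h1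
    rw [zpow_sub, zpow_sub, mul_inv_eq_iff_eq_mul]
    calc x ^ i = x ^ i * y ^ j * (y ^ j)⁻¹ := by group
      _ = x ^ j * y ^ i * (y ^ j)⁻¹ := by rw [h1]
      _ = y ^ i * (y ^ j)⁻¹ * x ^ j := by
          rw [(hc.zpow_zpow j i).eq, mul_assoc, ((hc.zpow_zpow j j).inv_right).eq, ← mul_assoc]
  have hij2 : x ^ (i - j) = 1 := by
    have : x ^ (i - j) ∈ zpowers x ⊓ zpowers y :=
      ⟨zpow_mem (mem_zpowers x) _, hij' ▸ zpow_mem (mem_zpowers y) _⟩
    rwa [hdisj, mem_bot] at this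
  rw [hij2] at hij'
  have hss : s * s = x ^ i * y ^ i := by
    rw [← hij]
    congr 1
    rw [show i = j + (i - j) by ring, zpow_add, ← hij', mul_one]
  have hs' : s * x ^ (-i) ∉ T := fun h => hs ((mul_mem_cancel_right (zpow_mem hx _)).1 h)
  refine ⟨n, hn2, hScard, x, y, s * x ^ (-i), hordx, hxy, hdisj, orderOf_eq_prime ?_ fun h => hs' ?_, ?_⟩
  · rw [pow_two]
    calc s * x ^ (-i) * (s * x ^ (-i)) = (s * x * s⁻¹) ^ (-i) * (s * s) * x ^ (-i) := by rw [conj_zpow]; group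
      _ = y ^ (-i) * (x ^ i * y ^ i) * x ^ (-i) := by rw [← hy, hss]
      _ = 1 := by
          rw [(hc.zpow_zpow i i).eq]
          group
  · rw [h]; exact one_mem _
  · rw [show s * x ^ (-i) * x * (s * x ^ (-i))⁻¹ = s * x * s⁻¹ by group]

end CfsgLib.TwoRankTwo
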